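import Cfsg.Agent.Lib.TwE6Deg.Stage1

/-! The two degrees below the bound do not divide the order. -/

set_option autoImplicit false
set_option linter.unusedSectionVars false
set_option linter.dupNamespace false
set_option maxRecDepth 100000
set_option maxHeartbeats 1000000

namespace CfsgLib.TwE6Deg

/-- The order, up to a divisor of three. -/
def ordP (q : ℕ) : ℕ :=
  q ^ 36 * (q ^ 2 - 1) * (q ^ 5 + 1) * (q ^ 6 - 1) * (q ^ 8 - 1) * (q ^ 9 + 1) * (q ^ 12 - 1)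

theorem small_not_dvd : ∀ q < 900, 2 ≤ q → ¬ (bnd q - 1 ∣ ordP q) ∧ ¬ (bnd q - 2 ∣ ordP q) := by
  decide +kernel

theorem strip {k x R : ℤ} (u v : ℤ) (h : u * k + v * x = R) :
    ∀ (n : ℕ) (y : ℤ), k ∣ x ^ n * y → k ∣ R ^ n * y
  | 0, y, hd => by simpa using hd
  | n + 1, y, hd => by
    have h1 : k ∣ R ^ n * (x * y) := strip u v h n (x * y) (by rwa [← mul_assoc, ← pow_succ])
    have h2 : R ^ (n + 1) * y = k * (u * (R ^ n * y)) + v * (R ^ n * (x * y)) := by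
      rw [pow_succ, ← h]; ring
    rw [h2]
    exact dvd_add (dvd_mul_right _ _) (dvd_mul_of_dvd_right h1 v)

/-- The polynomial of the bound. -/
def bP (Q : ℤ) : ℤ := Q ^ 11 - Q ^ 8 + Q ^ 7 + Q ^ 5 - Q ^ 4 + Q

theorem dvd_one {Q : ℤ} (h : bP Q - 1 ∣ Q ^ 36 * (Q ^ 2 - 1) * (Q ^ 5 + 1) * (Q ^ 6 - 1) * (Q ^ 8 - 1) *
    (Q ^ 9 + 1) * (Q ^ 12 - 1)) : bP Q - 1 ∣ 33882912 * (Q ^ 4 - Q ^ 2 + 1) := by
  set k := bP Q - 1 with hk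
  have e : Q ^ 36 * (Q ^ 2 - 1) * (Q ^ 5 + 1) * (Q ^ 6 - 1) * (Q ^ 8 - 1) * (Q ^ 9 + 1) * (Q ^ 12 - 1) =
      (Q - 1) ^ 4 * ((Q + 1) ^ 6 * ((Q ^ 2 + Q + 1) ^ 2 * ((Q ^ 2 + 1) ^ 2 * ((Q ^ 2 - Q + 1) ^ 3 *
        ((Q ^ 4 + 1) ^ 1 * ((Q ^ 4 - Q ^ 3 + Q ^ 2 - Q + 1) ^ 1 * ((Q ^ 6 - Q ^ 3 + 1) ^ 1 *
          (Q ^ 36 * (Q ^ 4 - Q ^ 2 + 1))))))))) := by ring
  rw [e] at h
  replace h := strip (R := 1) 1 (-2 - Q - Q ^ 2 - Q ^ 3 - 2 * Q ^ 4 - Q ^ 5 - Q ^ 6 - Q ^ 8 - Q ^ 9 - Q ^ 10)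
    (by rw [hk, bP]; ring) _ _ h
  rw [one_pow, one_mul] at h
  replace h := strip (R := 7) (-1) (6 - 5 * Q + 5 * Q ^ 2 - 5 * Q ^ 3 + 4 * Q ^ 4 - 3 * Q ^ 5 + 3 * Q ^ 6 -
    2 * Q ^ 7 + Q ^ 8 - Q ^ 9 + Q ^ 10) (by rw [hk, bP]; ring) _ _ h
  rw [mul_left_comm] at h
  replace h := strip (R := 2) (-1) (1 - Q ^ 2 + Q ^ 3 - Q ^ 4 + Q ^ 5 - Q ^ 8 + Q ^ 9) (by rw [hk, bP]; ring) _ _ h
  rw [mul_left_comm (7 ^ 6) ((Q ^ 2 + 1) ^ 2), mul_left_comm (2 ^ 2) ((Q ^ 2 + 1) ^ 2)] at h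
  replace h := strip (R := 3) (-1) (2 + Q - 2 * Q ^ 2 - Q ^ 3 + Q ^ 4 + 2 * Q ^ 5 - Q ^ 6 - Q ^ 7 + Q ^ 9)
    (by rw [hk, bP]; ring) _ _ h
  simp only [mul_left_comm _ ((Q ^ 2 - Q + 1) ^ 3)] at h
  replace h := strip (R := 2) 1 (3 + 2 * Q - Q ^ 2 - 3 * Q ^ 3 - Q ^ 4 + Q ^ 5 + 2 * Q ^ 6 - Q ^ 8 - Q ^ 9)
    (by rw [hk, bP]; ring) _ _ h
  simp only [mul_left_comm _ ((Q ^ 4 + 1) ^ 1)] at h
  replace h := strip (R := 1) (-1) (Q - Q ^ 4 + Q ^ 7) (by rw [hk, bP]; ring) _ _ h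
  simp only [mul_left_comm _ ((Q ^ 4 - Q ^ 3 + Q ^ 2 - Q + 1) ^ 1)] at h
  replace h := strip (R := 1) (-Q - Q ^ 3) (1 - Q ^ 5 + Q ^ 8 + Q ^ 9 + Q ^ 10) (by rw [hk, bP]; ring) _ _ h
  simp only [mul_left_comm _ ((Q ^ 6 - Q ^ 3 + 1) ^ 1)] at h
  replace h := strip (R := 1) (-1) (Q + Q ^ 5) (by rw [hk, bP]; ring) _ _ h
  simp only [mul_left_comm _ (Q ^ 36)] at h
  replace h := strip (R := 1) (-1) (1 - Q ^ 3 + Q ^ 4 + Q ^ 6 - Q ^ 7 + Q ^ 10) (by rw [hk, bP]; ring) _ _ h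
  convert h using 1
  ring

theorem dvd_two {Q : ℤ} (h : bP Q - 2 ∣ Q ^ 36 * (Q ^ 2 - 1) * (Q ^ 5 + 1) * (Q ^ 6 - 1) * (Q ^ 8 - 1) *
    (Q ^ 9 + 1) * (Q ^ 12 - 1)) : bP Q - 2 ∣ 2 ^ 60 * 99 * (Q - 1) ^ 4 := by
  set k := bP Q - 2 with hk
  have e : Q ^ 36 * (Q ^ 2 - 1) * (Q ^ 5 + 1) * (Q ^ 6 - 1) * (Q ^ 8 - 1) * (Q ^ 9 + 1) * (Q ^ 12 - 1) =
      (Q + 1) ^ 6 * ((Q ^ 2 + Q + 1) ^ 2 * ((Q ^ 2 + 1) ^ 2 * ((Q ^ 2 - Q + 1) ^ 3 *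
        ((Q ^ 4 + 1) ^ 1 * ((Q ^ 4 - Q ^ 3 + Q ^ 2 - Q + 1) ^ 1 * ((Q ^ 4 - Q ^ 2 + 1) ^ 1 *
          ((Q ^ 6 - Q ^ 3 + 1) ^ 1 * (Q ^ 36 * (Q - 1) ^ 4)))))))) := by ring
  rw [e] at h
  replace h := strip (R := 8) (-1) (6 - 5 * Q + 5 * Q ^ 2 - 5 * Q ^ 3 + 4 * Q ^ 4 - 3 * Q ^ 5 + 3 * Q ^ 6 -
    2 * Q ^ 7 + Q ^ 8 - Q ^ 9 + Q ^ 10) (by rw [hk, bP]; ring) _ _ h
  rw [mul_left_comm] at h
  replace h := strip (R := 3) (-1) (1 - Q ^ 2 + Q ^ 3 - Q ^ 4 + Q ^ 5 - Q ^ 8 + Q ^ 9) (by rw [hk, bP]; ring) _ _ h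
  simp only [mul_left_comm _ ((Q ^ 2 + 1) ^ 2)] at h
  replace h := strip (R := 4) (-1) (2 + Q - 2 * Q ^ 2 - Q ^ 3 + Q ^ 4 + 2 * Q ^ 5 - Q ^ 6 - Q ^ 7 + Q ^ 9)
    (by rw [hk, bP]; ring) _ _ h
  simp only [mul_left_comm _ ((Q ^ 2 - Q + 1) ^ 3)] at h
  replace h := strip (R := 1) 1 (3 + 2 * Q - Q ^ 2 - 3 * Q ^ 3 - Q ^ 4 + Q ^ 5 + 2 * Q ^ 6 - Q ^ 8 - Q ^ 9)
    (by rw [hk, bP]; ring) _ _ h
  simp only [mul_left_comm _ ((Q ^ 4 + 1) ^ 1)] at h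
  replace h := strip (R := 2) (-1) (Q - Q ^ 4 + Q ^ 7) (by rw [hk, bP]; ring) _ _ h
  simp only [mul_left_comm _ ((Q ^ 4 - Q ^ 3 + Q ^ 2 - Q + 1) ^ 1)] at h
  replace h := strip (R := 11) (-5 - 3 * Q - Q ^ 2 - Q ^ 3)
    (1 - 5 * Q ^ 4 - 3 * Q ^ 5 + 4 * Q ^ 6 + 7 * Q ^ 7 + 4 * Q ^ 8 + 2 * Q ^ 9 + Q ^ 10)
    (by rw [hk, bP]; ring) _ _ h
  simp only [mul_left_comm _ ((Q ^ 4 - Q ^ 2 + 1) ^ 1)] at h
  replace h := strip (R := 1) (-1) (-1 + Q - Q ^ 2 + Q ^ 3 - Q ^ 4 + Q ^ 5 + Q ^ 7) (by rw [hk, bP]; ring) _ _ h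
  simp only [mul_left_comm _ ((Q ^ 6 - Q ^ 3 + 1) ^ 1)] at h
  replace h := strip (R := 2) (-1) (Q + Q ^ 5) (by rw [hk, bP]; ring) _ _ h
  simp only [mul_left_comm _ (Q ^ 36)] at h
  replace h := strip (R := 2) (-1) (1 - Q ^ 3 + Q ^ 4 + Q ^ 6 - Q ^ 7 + Q ^ 10) (by rw [hk, bP]; ring) _ _ h
  convert h using 1
  ring

theorem too_large {Q c B X : ℤ} (hQ : 900 ≤ Q) (hc : c ≤ 2) (hB0 : 0 ≤ B) (hB : B ≤ 2 ^ 60 * 99)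
    (hX0 : 0 < X) (hX : X ≤ Q ^ 4) (hBpos : 0 < B) : ¬ bP Q - c ∣ B * X := by
  intro h
  have hle := Int.le_of_dvd (mul_pos hBpos hX0) h
  have h1 : B * X ≤ 2 ^ 60 * 99 * Q ^ 4 := mul_le_mul hB hX hX0.le (by norm_num)
  have q4 : (1 : ℤ) ≤ Q ^ 4 := one_le_pow₀ (by linarith)
  have h7 : (900 : ℤ) ^ 7 * Q ^ 4 ≤ Q ^ 11 := by
    rw [show Q ^ 11 = Q ^ 7 * Q ^ 4 by ring]
    exact mul_le_mul_of_nonneg_right (pow_le_pow_left₀ (by norm_num) hQ 7) (by linarith)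
  have h8 : 2 * Q ^ 8 ≤ Q ^ 11 := by
    rw [show Q ^ 11 = Q ^ 3 * Q ^ 8 by ring]
    exact mul_le_mul_of_nonneg_right (le_trans (by norm_num) (pow_le_pow_left₀ (by norm_num) hQ 3)) (pow_nonneg (by linarith) 8)
  have h47 : Q ^ 4 ≤ Q ^ 7 := pow_le_pow_right₀ (by linarith) (by norm_num)
  have h5 : 0 ≤ Q ^ 5 := pow_nonneg (by linarith) 5
  norm_num at h1 h7
  simp only [bP] at hle
  linarith

theorem not_dvd (q : ℕ) (hq : 2 ≤ q) : ¬ (bnd q - 1 ∣ ordP q) ∧ ¬ (bnd q - 2 ∣ ordP q) := by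
  by_cases hs : q < 900
  · exact small_not_dvd q hs hq
  have hb := bnd_eq q (by omega)
  have h2 : 2 ≤ bnd q := by
    have h1 : q ^ 8 + q ^ 4 + 2 ≤ q ^ 11 + q ^ 7 + q ^ 5 + q := by
      have a1 : q ^ 8 ≤ q ^ 11 := Nat.pow_le_pow_right (by omega) (by norm_num)
      have a2 : q ^ 4 ≤ q ^ 7 := Nat.pow_le_pow_right (by omega) (by norm_num)
      omega
    omega
  have hB : (bnd q : ℤ) = bP q := by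
    have := congrArg (Nat.cast : ℕ → ℤ) hb
    push_cast at this
    simp only [bP]
    linarith
  have hO : (ordP q : ℤ) = (q : ℤ) ^ 36 * ((q : ℤ) ^ 2 - 1) * ((q : ℤ) ^ 5 + 1) * ((q : ℤ) ^ 6 - 1) *
      ((q : ℤ) ^ 8 - 1) * ((q : ℤ) ^ 9 + 1) * ((q : ℤ) ^ 12 - 1) := by
    have p : ∀ n, 1 ≤ q ^ n := fun n => Nat.one_le_pow _ _ (by omega)
    simp only [ordP, Nat.cast_mul, Nat.cast_pow, Nat.cast_add, Nat.cast_one, Nat.cast_sub (p _)]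
  have hQ : (900 : ℤ) ≤ q := by exact_mod_cast not_lt.1 hs
  constructor <;> intro h
  · have h' := Int.natCast_dvd_natCast.2 h
    rw [Nat.cast_sub (by omega), hB, hO, Nat.cast_one] at h'
    exact too_large hQ (by norm_num) (by norm_num) (by norm_num) (by nlinarith [sq_nonneg ((q : ℤ) ^ 2 - 1)]) (by nlinarith) (by norm_num)
      (dvd_one h')
  · have h' := Int.natCast_dvd_natCast.2 h
    rw [Nat.cast_sub h2, hB, hO, Nat.cast_ofNat] at h'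
    exact too_large hQ (by norm_num) (by norm_num) le_rfl (pow_pos (by linarith) 4)
      (pow_le_pow_left₀ (by linarith) (by linarith) 4) (by norm_num) (dvd_two h')

end CfsgLib.TwE6Deg
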