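import Cfsg.Agent.Lib.Chev.Twist.SimpleE6
import Cfsg.Agent.Lib.Chev.Twist.OrderE6
import Cfsg.Agent.Lib.Chev.Twist.SubfieldMax.TypeE6
import Cfsg.Agent.Lib.Chev.SL2Hom

/-! Root elements of ²E₆, with one parameter from the large field for every orbit of roots. -/

set_option autoImplicit false
set_option linter.unusedSectionVars false
set_option linter.dupNamespace false
set_option maxRecDepth 100000
set_option maxHeartbeats 1000000
set_option synthInstance.maxSize 4096
set_option synthInstance.maxHeartbeats 400000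

namespace CfsgLib.TwE6Deg

open Cfsg.Lie CfsgLib.Chev CfsgLib.Chev.Chev CfsgLib.Chev.T2E6

/-- A root of E₆. -/
abbrev Rt := Fin Cfsg.Lie.chevE6.nroots

/-- The structure constants. -/
noncomputable abbrev Nc (r s : Rt) : ℤ := CfsgLib.Chev.chevE6.N r s

/-- The sum of two roots. -/
noncomputable abbrev sm (r s : Rt) : Rt := CfsgLib.Chev.chevE6.S r s

/-- The root with given index. -/
def rt (n : ℕ) : Rt := ⟨n % Cfsg.Lie.chevE6.nroots, Nat.mod_lt _ (by decide)⟩

/-- The symmetry of the roots. -/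
noncomputable def sr (r : Rt) : Rt := rt (symE6.mor.ρ r.val)

/-- Its signs. -/
noncomputable def ee (r : Rt) : ℤ := symE6.mor.e r.val

/-- The constant of a commutator of root elements. -/
def kap (g a : Rt) : ℤ :=
  match Cfsg.Lie.chevE6.commTerms g.val a.val with
  | [] => 0
  | e :: _ => e.2.1

theorem terms_ok : ∀ g a : Rt, Nc g a ≠ 0 →
    Cfsg.Lie.chevE6.commTerms g.val a.val = [((sm g a).val, kap g a, 1, 1)] ∧
      (kap g a = 1 ∨ kap g a = -1) := by
  decide +kernel

theorem sr_ok : ∀ r : Rt, sr (sr r) = r ∧ (ee r = 1 ∨ ee r = -1) ∧ ee (sr r) = ee r ∧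
    (sr r = r → ee r = 1) ∧ symE6.mor.ρ r.val = (sr r).val ∧ sr r.rev = (sr r).rev ∧ ee r.rev = ee r ∧
    Nc r (sr r) = 0 ∧ sr r ≠ r.rev ∧ Nc r (sr r.rev) = 0 := by
  decide +kernel

theorem sr_sr (r : Rt) : sr (sr r) = r := (sr_ok r).1

/-- The data fixed throughout. -/
structure Ctx (K : Type*) [Field K] [Fintype K] (q : ℕ) : Prop where
  hq : IsPrimePow q
  hK : Fintype.card K = q ^ 2

/-- The group. -/
abbrev GG (K : Type*) [Field K] (q : ℕ) := ↥(twistedE6 K q)

variable {K : Type*} [Field K] [Fintype K] {q : ℕ} (C : Ctx K q)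

/-- The automorphism of order two. -/
noncomputable def fr : K ≃+* K := (exists_frob_equiv C.hq C.hK).choose

theorem fr_apply (x : K) : fr C x = x ^ q := (exists_frob_equiv C.hq C.hK).choose_spec x

theorem fr_fr (x : K) : fr C (fr C x) = x := by rw [fr_apply, fr_apply]; exact pow_q_q C.hK x

/-- The trace. -/
noncomputable def Tr (x : K) : K := x + fr C x

theorem Tr_add (x y : K) : Tr C (x + y) = Tr C x + Tr C y := by rw [Tr, Tr, Tr, map_add]; ring

theorem fr_Tr (x : K) : fr C (Tr C x) = Tr C x := by rw [Tr, map_add, fr_fr, add_comm]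

theorem Tr_fr (x : K) : Tr C (fr C x) = Tr C x := by rw [Tr, Tr, fr_fr, add_comm]

theorem Tr_mul {s : K} (hs : fr C s = s) (x : K) : Tr C (s * x) = s * Tr C x := by
  rw [Tr, Tr, map_mul, hs]; ring

include C in
theorem exists_Tr_ne : ∃ x : K, Tr C x ≠ 0 := by
  classical
  by_contra h
  push Not at h
  have h1 : Nat.card {x : K // x ^ q = x} = Fintype.card K := by
    rw [← Nat.card_eq_fintype_card]
    refine Nat.card_congr (Equiv.subtypeUnivEquiv fun x => ?_)
    have e1 : fr C (1 : K) = 1 := map_one _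
    have e0 := h 1
    rw [Tr, e1] at e0
    have ex := h x
    rw [Tr, fr_apply] at ex
    linear_combination ex - x * e0
  rw [card_pow_eq_self C.hq.one_lt C.hK, C.hK] at h1
  have := C.hq.one_lt
  nlinarith

/-- An element of trace one. -/
noncomputable def τ : K := (exists_Tr_ne C).choose / Tr C (exists_Tr_ne C).choose

theorem Tr_τ : Tr C (τ C) = 1 := by
  rw [τ, div_eq_inv_mul, Tr_mul C (by rw [map_inv₀, fr_Tr]), inv_mul_cancel₀ (exists_Tr_ne C).choose_spec]

theorem Tr_surj {s : K} (hs : fr C s = s) : Tr C (s * τ C) = s := by rw [Tr_mul C hs, Tr_τ, mul_one]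

/-! ### Root elements -/

/-- A root element of E₆. -/
noncomputable abbrev X (r : Rt) (t : K) : GL Cfsg.Lie.chevE6.Idx K := CfsgLib.Chev.chevE6.toAlg.xg r t

theorem X_mem (r : Rt) (t : K) : X r t ∈ Cfsg.Lie.chevE6.group K :=
  CfsgLib.Chev.chevE6.toAlg.xg_mem_group r t

theorem X_add (r : Rt) (a b : K) : X r (a + b) = X r a * X r b := CfsgLib.Chev.chevE6.toAlg.xg_add r a b

theorem X_zero (r : Rt) : X r (0 : K) = 1 := CfsgLib.Chev.chevE6.toAlg.xg_zero r

theorem X_comm {g a : Rt} (hne : a ≠ g.rev) (h : Nc g a = 0) (t w : K) :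
    X a w * X g t = X g t * X a w :=
  (CfsgLib.Chev.chevE6.toAlg.xg_commute hne h t w).eq.symm

theorem X_swap {g a : Rt} (hne : a ≠ g.rev) (h : Nc g a ≠ 0) (t w : K) :
    X a w * X g t = X g t * X a w * X (sm g a) ((kap g a : K) * -t * w) := by
  have hag : a ≠ g := fun e => h (by rw [e]; exact CfsgLib.Chev.chevE6.N_self g)
  refine Units.ext ?_
  have := CfsgLib.Chev.chevE6.commutator_formula (r := g) (s := a) (R := K) hag hne t w
  rw [(terms_ok g a h).1] at this
  simpa [Sys.termProd, Sys.XN_val] using this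

theorem app_X (r : Rt) (t : K) : (tw C.hq C.hK).app (X r t) = X (sr r) ((ee r : K) * fr C t) := by
  have hX := setup C.hq C.hK (fr_apply C)
  rw [Tw.app_xg' hX, show S.ρ r = sr r from Fin.ext (by rw [hX.rho]; exact (sr_ok r).2.2.2.2.1)]
  rfl

include C in
theorem fix_mem {g : GL Cfsg.Lie.chevE6.Idx K} (hg : g ∈ Cfsg.Lie.chevE6.group K)
    (h : (tw C.hq C.hK).app g = g) : g ∈ twistedE6 K q := by
  rw [eq_fix C.hq C.hK]; exact (Tw.mem_fix _).2 ⟨hg, h⟩

theorem ee_sq (r : Rt) : (ee r : K) * ee r = 1 := by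
  rcases (sr_ok r).2.1 with h | h <;> simp [h]

theorem ee_fixed {r : Rt} (h : sr r = r) : (ee r : K) = 1 := by
  rw [(sr_ok r).2.2.2.1 h, Int.cast_one]

/-- The root element of the orbit of `r`. -/
noncomputable def y (r : Rt) (t : K) : GG K q :=
  ⟨X r t * X (sr r) ((ee r : K) * fr C t), fix_mem C (mul_mem (X_mem _ _) (X_mem _ _)) (by
    rw [Tw.app_mul _ (X_mem _ _) (X_mem _ _), app_X C, app_X C, sr_sr, (sr_ok r).2.2.1, map_mul, map_intCast,
      fr_fr, ← mul_assoc, ee_sq, one_mul]
    exact X_comm (sr_ok r).2.2.2.2.2.2.2.2.1 (sr_ok r).2.2.2.2.2.2.2.1 _ _)⟩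

theorem y_val (r : Rt) (t : K) :
    (y C r t : GL Cfsg.Lie.chevE6.Idx K) = X r t * X (sr r) ((ee r : K) * fr C t) := rfl

theorem y_fixed {r : Rt} (h : sr r = r) (t : K) :
    (y C r t : GL Cfsg.Lie.chevE6.Idx K) = X r (Tr C t) := by
  rw [y_val, h, ee_fixed h, one_mul, ← X_add]; rfl

theorem y_add (r : Rt) (a b : K) : y C r (a + b) = y C r a * y C r b := by
  refine Subtype.ext ?_
  simp only [Subgroup.coe_mul, y_val, map_add, mul_add, X_add, mul_assoc]
  rw [← mul_assoc (X r b), ← mul_assoc (X (sr r) _) (X r b),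
    X_comm (sr_ok r).2.2.2.2.2.2.2.2.1 (sr_ok r).2.2.2.2.2.2.2.1 b]

theorem y_zero (r : Rt) : y C r 0 = 1 := Subtype.ext (by simp [y_val, X_zero])

theorem y_neg_mul (r : Rt) (a : K) : y C r (-a) * y C r a = 1 := by
  rw [← y_add, neg_add_cancel, y_zero]

theorem y_swap (r : Rt) (t : K) : y C (sr r) ((ee r : K) * fr C t) = y C r t := by
  refine Subtype.ext ?_
  rw [y_val, y_val, sr_sr, (sr_ok r).2.2.1, map_mul, map_intCast, fr_fr, ← mul_assoc, ee_sq, one_mul]
  exact (X_comm (sr_ok r).2.2.2.2.2.2.2.2.1 (sr_ok r).2.2.2.2.2.2.2.1 _ _)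

/-! ### Commutation -/

/-- The orbits of `g` and `a` commute. -/
noncomputable def Z0 (g a : Rt) : Bool :=
  decide (Nc g a = 0 ∧ a ≠ g.rev ∧ Nc (sr g) a = 0 ∧ a ≠ (sr g).rev ∧ Nc g (sr a) = 0 ∧ sr a ≠ g.rev ∧
    Nc (sr g) (sr a) = 0 ∧ sr a ≠ (sr g).rev)

/-- The kind of a commutator with a second term: `1` if the second factor of `a` contributes. -/
noncomputable def kA (g a : Rt) : Bool := decide (sr g = g ∧ Nc (sr a) (sm g a) ≠ 0)

/-- The kind of a commutator with a second term: `1` if the second factor of `g` contributes. -/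
noncomputable def kC (g a : Rt) : Bool := decide (sr g ≠ g ∧ sr a = a)

/-- The second root of a commutator. -/
noncomputable def bb (g a : Rt) : Rt :=
  if kA g a then sm (sr a) (sm g a) else if kC g a then sm (sr g) (sm g a) else sm g a

/-- The commutator of the orbits of `g` and `a` is led by `g + a`. -/
noncomputable def Kin (g a : Rt) : Bool :=
  decide (Nc g a ≠ 0 ∧ a ≠ g.rev ∧ sr (sm g a) = sm (sr g) (sr a) ∧ Nc (sr g) (sr a) ≠ 0 ∧
    sr a ≠ (sr g).rev ∧ kap (sr g) (sr a) * ee g * ee a = ee (sm g a) * kap g a ∧ sr a ≠ g.rev ∧ a ≠ (sr g).rev ∧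
    (sr g = g → sr a ≠ (sm g a).rev ∧
      (Nc (sr a) (sm g a) ≠ 0 → sm g a ≠ (sr a).rev ∧ sr (bb g a) = bb g a ∧
        Nc (bb g a) (sr (sm g a)) = 0 ∧ sr (sm g a) ≠ (bb g a).rev) ∧
      (Nc (sr a) (sm g a) = 0 → sm g a ≠ (sr a).rev)) ∧
    (sr g ≠ g → sr a ≠ a → Nc g (sr a) = 0 ∧ Nc (sr g) a = 0 ∧
      Nc (sr g) (sm g a) = 0 ∧ sm g a ≠ (sr g).rev ∧ Nc (sr a) (sm g a) = 0 ∧ sm g a ≠ (sr a).rev) ∧
    (sr g ≠ g → sr a = a → Nc (sr g) (sm g a) ≠ 0 ∧ sm g a ≠ (sr g).rev ∧ sr (bb g a) = bb g a ∧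
      Nc (sr (sm g a)) (sm g a) = 0 ∧ sm g a ≠ (sr (sm g a)).rev))

/-- The first parameter of a commutator. -/
noncomputable def m1 (g a : Rt) (t w : K) : K :=
  if sr g = g then Tr C t * w else if sr a = a then t * Tr C w else t * w

/-- The second parameter of a commutator. -/
noncomputable def m2 (g a : Rt) (t w : K) : K :=
  if kA g a then (kap (sr a) (sm g a) : K) * kap g a * ee a * Tr C t * (w * fr C w) * τ C
  else if kC g a then (kap (sr g) (sm g a) : K) * kap g a * ee g * (t * fr C t) * Tr C w * τ C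
  else 0

theorem y_comm {g a : Rt} (h : Z0 g a = true) (t w : K) : y C a w * y C g t = y C g t * y C a w := by
  simp only [Z0, decide_eq_true_eq] at h
  obtain ⟨h1, n1, h2, n2, h3, n3, h4, n4⟩ := h
  refine Subtype.ext ?_
  simp only [Subgroup.coe_mul, y_val]
  have c1 : Commute (X a w) (X g t) := X_comm n1 h1 t w
  have c2 : Commute (X a w) (X (sr g) ((ee g : K) * fr C t)) := X_comm n2 h2 _ w
  have c3 : Commute (X (sr a) ((ee a : K) * fr C w)) (X g t) := X_comm n3 h3 t _
  have c4 : Commute (X (sr a) ((ee a : K) * fr C w)) (X (sr g) ((ee g : K) * fr C t)) := X_comm n4 h4 _ _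
  exact (((c1.mul_right c2).mul_left (c3.mul_right c4))).eq

/-- Associativity in the ambient group only. -/
theorem ga_ (a b c : GL Cfsg.Lie.chevE6.Idx K) : a * b * c = a * (b * c) := mul_assoc a b c

/-- The commutator formula. -/
theorem y_move {g a : Rt} (h : Kin g a = true) (t w : K) : y C a w * y C g t =
    y C g t * y C a w * y C (sm g a) ((kap g a : K) * -m1 C g a t w) * y C (bb g a) (m2 C g a t w) := by
  simp only [Kin, decide_eq_true_eq] at h
  obtain ⟨hN, hne, hsr, hN', hne', hsgn, hne2, hne3, hA, hB, hC⟩ := h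
  have hsign : (kap (sr g) (sr a) : K) * ee g * ee a = ee (sm g a) * kap g a := by
    have := congrArg (fun n : ℤ => (n : K)) hsgn
    push_cast at this
    exact this
  refine Subtype.ext ?_
  by_cases hg : sr g = g
  · obtain ⟨hn5, hA2, hA0⟩ := hA hg
    have hm1 : m1 C g a t w = Tr C t * w := if_pos hg
    have hu : fr C ((kap g a : K) * -(Tr C t * w)) = (kap g a : K) * -(Tr C t * fr C w) := by
      rw [map_mul, map_intCast, map_neg, map_mul, fr_Tr]
    rw [hg] at hsr hN' hne' hsign
    rw [ee_fixed hg, mul_one] at hsign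
    have e1 : X (sr a) ((ee a : K) * fr C w) * X g (Tr C t) =
        X g (Tr C t) * X (sr a) ((ee a : K) * fr C w) *
          X (sr (sm g a)) ((ee (sm g a) : K) * fr C ((kap g a : K) * -(Tr C t * w))) := by
      rw [X_swap hne' hN', hu, hsr]
      congr 2
      linear_combination (-(Tr C t * fr C w)) * hsign
    simp only [Subgroup.coe_mul]
    rw [y_val C a, y_fixed C hg, hm1, y_val C (sm g a)]
    rw [mul_assoc (X a w), e1, ← mul_assoc, ← mul_assoc, X_swap hne hN]
    rw [show (kap g a : K) * -Tr C t * w = (kap g a : K) * -(Tr C t * w) by ring]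
    set u := (kap g a : K) * -(Tr C t * w) with hu'
    set v := (ee a : K) * fr C w with hv
    set u' := (ee (sm g a) : K) * fr C u
    by_cases h2 : Nc (sr a) (sm g a) = 0
    · have hka : kA g a = false := by simp [kA, h2]
      have hkc : kC g a = false := by simp [kC, hg]
      rw [show m2 C g a t w = 0 by simp [m2, hka, hkc], y_zero, Subgroup.coe_one, mul_one]
      simp only [ga_]
      rw [← mul_assoc (X (sm g a) u), X_comm (hA0 h2) h2 v u, mul_assoc]
    · obtain ⟨n6, hbf, hb0, nb⟩ := hA2 h2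
      have hka : kA g a = true := by simp [kA, hg, h2]
      have hm2 : m2 C g a t w = (kap (sr a) (sm g a) : K) * kap g a * ee a * Tr C t * (w * fr C w) * τ C := if_pos hka
      set z := (kap (sr a) (sm g a) : K) * kap g a * ee a * Tr C t * (w * fr C w) with hz
      have hzf : fr C z = z := by
        rw [hz, map_mul, map_mul, map_mul, map_mul, map_mul, map_intCast, map_intCast, map_intCast, fr_Tr, fr_fr]
        ring
      have hbb : bb g a = sm (sr a) (sm g a) := if_pos hka
      rw [y_fixed C hbf, hm2, Tr_surj C hzf]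
      have e2 := X_swap n6 h2 v u
      rw [← hbb, show (kap (sr a) (sm g a) : K) * -v * u = z by rw [hv, hu', hz]; ring] at e2
      simp only [ga_]
      rw [← mul_assoc (X (sm g a) u), e2]
      simp only [ga_]
      rw [← X_comm nb hb0 z u']
  · have hgf : Nc g (sr g) = 0 ∧ sr g ≠ g.rev := ⟨(sr_ok g).2.2.2.2.2.2.2.1, (sr_ok g).2.2.2.2.2.2.2.2.1⟩
    set t' := (ee g : K) * fr C t with ht'
    set u := (kap g a : K) * -t * w with hu0
    by_cases ha : sr a = a
    · obtain ⟨hN3, n7, hbf, hc0, nc⟩ := hC hg ha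
      have hm1 : m1 C g a t w = t * Tr C w := by simp [m1, hg, ha]
      rw [ha] at hsr hN' hne' hsign
      rw [ee_fixed ha, mul_one] at hsign
      have hka : kA g a = false := by simp [kA, hg]
      have hkc : kC g a = true := by simp [kC, hg, ha]
      have hm2 : m2 C g a t w = (kap (sr g) (sm g a) : K) * kap g a * ee g * (t * fr C t) * Tr C w * τ C := by
        simp [m2, hka, hkc]
      have hbb : bb g a = sm (sr g) (sm g a) := by simp [bb, hka, hkc]
      set W := Tr C w with hW
      set z := (kap (sr g) (sm g a) : K) * kap g a * ee g * (t * fr C t) * W with hz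
      have hzf : fr C z = z := by
        rw [hz, map_mul, map_mul, map_mul, map_mul, map_mul, map_intCast, map_intCast, map_intCast, hW, fr_Tr, fr_fr]
        ring
      simp only [Subgroup.coe_mul]
      rw [y_fixed C ha, y_fixed C hbf, hm1, hm2, Tr_surj C hzf, y_val C g, y_val C (sm g a)]
      rw [show (kap g a : K) * -(t * W) = (kap g a : K) * -t * W by ring]
      set uu := (kap g a : K) * -t * W with huu
      have e1 := X_swap hne hN t W
      have e2 : X (sm g a) uu * X (sr g) t' = X (sr g) t' * X (sm g a) uu * X (bb g a) z := by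
        rw [X_swap n7 hN3, hbb, ht', huu, hz]
        congr 2; ring
      have e3 : X a W * X (sr g) t' = X (sr g) t' * X a W * X (sr (sm g a)) ((ee (sm g a) : K) * fr C uu) := by
        rw [X_swap hne' hN', hsr, huu, ht', map_mul, map_mul, map_neg, map_intCast, hW, fr_Tr]
        congr 2
        linear_combination (-(fr C t * Tr C w)) * hsign
      rw [← mul_assoc, e1]
      simp only [ga_]
      rw [e2]
      simp only [ga_]
      rw [← mul_assoc (X a W), e3]
      simp only [ga_]
      rw [← mul_assoc (X (sr (sm g a)) _) (X (sm g a) uu), ← X_comm nc hc0 _ uu, mul_assoc]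
    · obtain ⟨hN4, hN5, hN6, n8, hN7, n9⟩ := hB hg ha
      have hm1 : m1 C g a t w = t * w := by simp [m1, hg, ha]
      have hka : kA g a = false := by simp [kA, hg]
      have hkc : kC g a = false := by simp [kC, ha]
      simp only [Subgroup.coe_mul]
      rw [show m2 C g a t w = 0 by simp [m2, hka, hkc], y_zero, Subgroup.coe_one, mul_one, hm1,
        show (kap g a : K) * -(t * w) = u by rw [hu0]; ring, y_val C a, y_val C g, y_val C (sm g a)]
      set v := (ee a : K) * fr C w with hv
      have e3 : X (sr a) v * X (sr g) t' = X (sr g) t' * X (sr a) v * X (sr (sm g a)) ((ee (sm g a) : K) * fr C u) := by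
        rw [X_swap hne' hN', hsr, hu0, ht', hv, map_mul, map_mul, map_neg, map_intCast]
        congr 2
        linear_combination (-(fr C t * fr C w)) * hsign
      simp only [ga_]
      rw [← mul_assoc (X (sr a) v) (X g t), X_comm hne2 hN4 t v, mul_assoc, e3, ← mul_assoc (X a w) (X g t),
        X_swap hne hN t w]
      simp only [ga_]
      rw [← mul_assoc (X (sm g a) u) (X (sr g) t'), X_comm n8 hN6 t' u]
      simp only [ga_]
      rw [← mul_assoc (X a w) (X (sr g) t'), X_comm hne3 hN5 t' w]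
      simp only [ga_]
      rw [← mul_assoc (X (sm g a) u) (X (sr a) v), X_comm n9 hN7 v u, mul_assoc]

end CfsgLib.TwE6Deg
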