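import Cfsg.Agent.Lib.TwE6Deg.Data

/-! Counting the characters reached by translations. -/

set_option autoImplicit false
set_option linter.unusedSectionVars false
set_option linter.dupNamespace false
set_option maxRecDepth 100000
set_option maxHeartbeats 1000000
set_option synthInstance.maxSize 4096
set_option synthInstance.maxHeartbeats 400000

namespace CfsgLib.TwE6Deg

open Cfsg.Lie CfsgLib.Chev CfsgLib.Chev.Chev CfsgLib.Chev.T2E6

/-- The dimension of an orbit over the small field. -/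
noncomputable def wdt (a : Rt) : ℕ := if sr a = a then 1 else 2

/-- The targets of a chain of translations. -/
noncomputable def tgts (L : List (Rt × Rt)) : Finset Rt := (L.map Prod.snd).toFinset

/-- The number of free coordinates of a chain of translations. -/
noncomputable def dimL (L : List (Rt × Rt)) : ℕ := ∑ a ∈ tgts L, wdt a

theorem fill_mem {S P T : Rt → Bool} {i : Rt} : ∀ {L : List (Rt × Rt)} {D : Rt → Bool},
    FillOK S P T i D L → ∀ x ∈ L, S x.2 = true
  | (g, a) :: L, D, h, x, hx => by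
    rcases List.mem_cons.1 hx with rfl | hx
    · exact h.1.mem.1
    · exact fill_mem h.2.2 x hx

variable {K : Type*} [Field K] [Fintype K] {q : ℕ} {C : Ctx K q} {k : ℕ}
  {ρ : Representation ℂ (GG K q) (Fin k → ℂ)}

theorem exists_ne {A : Submodule ℂ (Fin k → ℂ)} (h : 0 < Module.finrank ℂ A) : ∃ v ∈ A, v ≠ 0 := by
  obtain ⟨⟨v, hv⟩, hne⟩ := Module.finrank_pos_iff_exists_ne_zero.1 h
  exact ⟨v, hv, fun e => hne (Subtype.ext e)⟩

theorem Eig_none : Module.finrank ℂ (Eig C ρ none (0 : Rt → K)) = k := by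
  have : Eig C ρ none (0 : Rt → K) = ⊤ := eq_top_iff.2 fun v _ a ha => by simp [none] at ha
  rw [this, finrank_top, Module.finrank_fintype_fun_eq_card, Fintype.card_fin]

/-- The value at the partner of a root. -/
theorem Eig_swap_val {S : Rt → Bool} {c : Rt → K} {v : Fin k → ℂ} (hv : v ∈ Eig C ρ S c) (h0 : v ≠ 0)
    {a : Rt} (ha : S a = true) (hs : S (sr a) = true) : c (sr a) = (ee a : K) * fr C (c a) := by
  by_contra hne
  obtain ⟨u, hu⟩ := ψ_sep C hne
  refine hu (smul_left_injective ℂ h0 (show ψ C (c (sr a) * u) • v = ψ C ((ee a : K) * fr C (c a) * u) • v from ?_))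
  have e : y C (sr a) u = y C a ((ee a : K) * fr C u) := by
    rw [← y_swap C (sr a) u, sr_sr, (sr_ok a).2.2.1]
  rw [← hv _ hs u, e, hv a ha, ← ψ_fr C (c a * _)]
  congr 2
  simp only [map_mul, map_intCast, fr_fr]
  ring

/-- The admissible values on the targets. -/
def Tgt (C : Ctx K q) (L : List (Rt × Rt)) : Type _ :=
  (a : {a : Rt // a ∈ tgts L}) → {x : K // sr a.1 = a.1 → fr C x = x}

noncomputable instance (C : Ctx K q) (L : List (Rt × Rt)) : Fintype (Tgt C L) :=
  haveI : Finite (Tgt C L) := inferInstanceAs (Finite ((a : {a : Rt // a ∈ tgts L}) → _))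
  Fintype.ofFinite _

theorem card_Tgt (L : List (Rt × Rt)) : Fintype.card (Tgt C L) = q ^ dimL L := by
  classical
  rw [← Nat.card_eq_fintype_card]
  show Nat.card ((a : {a : Rt // a ∈ tgts L}) → {x : K // sr a.1 = a.1 → fr C x = x}) = _
  rw [Nat.card_pi, dimL, ← Finset.prod_pow_eq_pow_sum, ← Finset.prod_coe_sort (tgts L)]
  refine Fintype.prod_congr _ _ fun a => ?_
  unfold wdt
  split_ifs with h
  · rw [pow_one]
    exact (Nat.card_congr (Equiv.subtypeEquivRight fun x =>
      ⟨fun e => by rw [← fr_apply C]; exact e h, fun e _ => by rw [fr_apply C]; exact e⟩)).trans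
      (card_pow_eq_self C.hq.one_lt C.hK)
  · rw [← C.hK, ← Nat.card_eq_fintype_card]
    exact Nat.card_congr (Equiv.subtypeUnivEquiv fun x e => absurd e h)

/-- The characters reached by a chain of translations. -/
theorem fill_family {S P T : Rt → Bool} {i : Rt} {L : List (Rt × Rt)} (hok : FillOK S P T i none L)
    (hTP : ∀ b, T b = true → P b = true) {c : Rt → K} (hpos : 0 < Module.finrank ℂ (Eig C ρ S c))
    (hz : ∀ b, T b = true → c b = 0) (hi : c i ≠ 0) (d : Tgt C L) :
    ∃ c' : Rt → K, (∀ b, P b = true → c' b = c b) ∧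
      Module.finrank ℂ (Eig C ρ S c) ≤ Module.finrank ℂ (Eig C ρ S c') ∧ ∀ a, c' a.1 = (d a).1 := by
  classical
  obtain ⟨v, hv, hne⟩ := exists_ne hpos
  obtain ⟨h, c', -, h1, h2, h3⟩ := fill hTP L none hok c (fun a => if ha : a ∈ tgts L then (d ⟨a, ha⟩).1 else 0)
    hv hne hz hi (fun b hb => by
      split_ifs with ha
      · exact (d ⟨b, ha⟩).2 hb
      · exact map_zero _)
  refine ⟨c', fun b hb => h2 b (Or.inl hb), finrank_le_of_move h h1, fun a => ?_⟩
  obtain ⟨x, hx, hxa⟩ := List.mem_map.1 (List.mem_toFinset.1 a.2)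
  have := h3 x hx
  rw [hxa, dif_pos a.2] at this
  exact this

/-- The eigenspaces reached fit into a common space. -/
theorem fill_sum {S P T : Rt → Bool} {i : Rt} {L : List (Rt × Rt)} (hok : FillOK S P T i none L)
    (hTP : ∀ b, T b = true → P b = true) (hPS : ∀ b, P b = true → S b = true) {c : Rt → K} (hi : c i ≠ 0)
    (hz : ∀ b, T b = true → c b = 0) :
    q ^ dimL L * Module.finrank ℂ (Eig C ρ S c) ≤ Module.finrank ℂ (Eig C ρ P c) := by
  classical
  rcases Nat.eq_zero_or_pos (Module.finrank ℂ (Eig C ρ S c)) with h0 | hpos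
  · rw [h0, mul_zero]; exact Nat.zero_le _
  choose cf h1 h2 h3 using fill_family (C := C) (ρ := ρ) hok hTP hpos hz hi
  have hsum := finrank_sum_le (ρ := ρ) S cf (fun d d' hne => by
      obtain ⟨a, ha⟩ := Function.ne_iff.1 hne
      obtain ⟨x, hx, hxa⟩ := List.mem_map.1 (List.mem_toFinset.1 a.2)
      exact ⟨a.1, hxa ▸ fill_mem hok x hx, fun e => ha (Subtype.ext (by rw [← h3, ← h3, e]))⟩)
    (fun d => Eig C ρ S (cf d)) (Eig C ρ P c)
    (fun d => Eig_mono fun b hb => ⟨hPS b hb, h1 d b hb⟩) (fun d => le_rfl)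
  refine le_trans ?_ hsum
  refine le_trans (le_of_eq ?_) (Finset.card_nsmul_le_sum _ _ _ fun d _ => h2 d)
  rw [Finset.card_univ, card_Tgt, smul_eq_mul]

/-! ### Leaders -/

/-- The pure characters at `r` all have eigenspaces of dimension `n`. -/
def Const (C : Ctx K q) (ρ : Representation ℂ (GG K q) (Fin k → ℂ)) (S : Rt → Bool) (r : Rt) (n : ℕ) : Prop :=
  ∀ s : K, fr C s = s → s ≠ 0 → Module.finrank ℂ (Eig C ρ S (sgl r s)) = n

theorem const_torus {S : Rt → Bool} {r : Rt}
    (hA : CfsgLib.Chev.chevE6.A (ix 1) r = 1 ∨ CfsgLib.Chev.chevE6.A (ix 1) r = -1) :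
    Const C ρ S r (Module.finrank ℂ (Eig C ρ S (sgl r (1 : K)))) := fun _ hs hs0 =>
  le_antisymm (pure_torus hA hs0 one_ne_zero hs (map_one _)) (pure_torus hA one_ne_zero hs0 (map_one _) hs)

theorem Const.word {S : Rt → Bool} {r r' : Rt} {n : ℕ} (h : Const C ρ S r n) (l : List (Fin 4))
    (hw : wim l r = r') (h1 : ∀ b, S b = true → S (wim l.reverse b) = true)
    (h2 : ∀ b, S b = true → S (wim l b) = true) : Const C ρ S r' n := by
  intro s hs hs0
  have hu : ∀ (l : List (Fin 4)) (a : Rt), (wet l a : K) * wet l a = 1 := fun l a => by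
    rcases wet_unit l a with e | e <;> simp [e]
  have hf : ∀ (l : List (Fin 4)) (a : Rt), fr C ((wet l a : K) * s) = (wet l a : K) * s := fun l a => by
    rw [map_mul, map_intCast, hs]
  have hn : ∀ (l : List (Fin 4)) (a : Rt), (wet l a : K) * s ≠ 0 := fun l a =>
    mul_ne_zero (left_ne_zero_of_mul_eq_one (hu l a)) hs0
  refine le_antisymm ?_ ?_
  · have := pure_word (C := C) (ρ := ρ) l.reverse (S := S) (S' := S)
      (fun b hb => by rw [List.reverse_reverse]; exact h2 b hb) r' s
    rw [← hw, wim_reverse', hw] at this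
    rwa [h _ (hf _ _) (hn _ _)] at this
  · have := pure_word (C := C) (ρ := ρ) l (S := S) (S' := S) h1 r ((wet l r : K) * s)
    rwa [h _ (hf _ _) (hn _ _), hw, ← mul_assoc, hu, one_mul] at this

/-- The sum of the powers of `q` over the leaders. -/
noncomputable def lsum (L : List (Rt × List (Fin 4) × List (Rt × Rt))) (q : ℕ) : ℕ :=
  (L.map fun x => q ^ dimL x.2.2).sum

theorem pin_self {Fix R : Rt → Bool} {i : Rt} (hi : R i = true) : pin Fix R i i = true := by simp [pin, hi]

theorem pin_le {Fix R : Rt → Bool} {i b : Rt} (h : pin Fix R i b = true) : uni Fix R b = true := by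
  simp only [pin, Bool.or_eq_true, Bool.and_eq_true] at h
  exact uni_iff.2 (h.imp id fun e => e.1)

/-- A lower bound from the pure characters of one radical. -/
theorem cells_le {Fix R : Rt → Bool} {top : Rt} {L : List (Rt × List (Fin 4) × List (Rt × Rt))}
    (hok : LeadOK Fix R top L) (hnd : (L.map Prod.fst).Nodup) {n : ℕ} (hn : Const C ρ (uni Fix R) top n) :
    n * (q - 1) * lsum L q + Module.finrank ℂ (Eig C ρ (uni Fix R) (0 : Rt → K))
      ≤ Module.finrank ℂ (Eig C ρ Fix (0 : Rt → K)) := by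
  classical
  rcases Nat.eq_zero_or_pos n with rfl | hpos
  · simp only [zero_mul, zero_add]
    exact Submodule.finrank_mono (Eig_mono fun b hb => ⟨uni_iff.2 (Or.inl hb), rfl⟩)
  let U := {u : Kˣ // u ^ q = u}
  haveI : Fintype U := Fintype.ofFinite _
  have hU : ∀ u : U, fr C ((u.1 : Kˣ) : K) = u.1 := fun u => by
    rw [fr_apply, ← Units.val_pow_eq_pow_val, u.2]
  have hi : ∀ j : Fin L.length, Const C ρ (uni Fix R) (L.get j).1 n := fun j => by
    obtain ⟨h1, h2, h3, -⟩ := hok _ (L.get_mem j)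
    exact hn.word _ h1 h2 h3
  have h : ∀ (j : Fin L.length) (u : U) (d : Tgt C (L.get j).2.2), ∃ c : Rt → K,
      (∀ b, pin Fix R (L.get j).1 b = true → c b = sgl (L.get j).1 ((u.1 : Kˣ) : K) b) ∧
      n ≤ Module.finrank ℂ (Eig C ρ (uni Fix R) c) ∧ ∀ a, c a.1 = (d a).1 := fun j u d => by
    obtain ⟨-, -, -, hR, -, -, hf⟩ := hok _ (L.get_mem j)
    have he := hi j _ (hU u) (Units.ne_zero _)
    obtain ⟨c, h1, h2, h3⟩ := fill_family (C := C) (ρ := ρ) hf (fun b hb => by
        simp only [wo, Bool.and_eq_true] at hb; exact hb.1) (c := sgl (L.get j).1 ((u.1 : Kˣ) : K))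
      (by rw [he]; exact hpos) (fun b hb => sgl_ne (by simp [wo] at hb; exact hb.2) _)
      (by rw [sgl_self]; exact Units.ne_zero _) d
    exact ⟨c, h1, he ▸ h2, h3⟩
  choose cf hcp hcm hcd using h
  let ι := Σ j : Fin L.length, U × Tgt C (L.get j).2.2
  let c : Option ι → Rt → K := fun o => o.elim 0 fun p => cf p.1 p.2.1 p.2.2
  have hlead : ∀ p : ι, uni Fix R (L.get p.1).1 = true ∧ c (some p) (L.get p.1).1 = ((p.2.1.1 : Kˣ) : K) := fun p => by
    obtain ⟨-, -, -, hR, -, -, -⟩ := hok _ (L.get_mem p.1)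
    exact ⟨uni_iff.2 (Or.inr hR), by
      show cf p.1 p.2.1 p.2.2 _ = _
      rw [hcp _ _ _ _ (pin_self hR), sgl_self]⟩
  have hlt : ∀ p p' : ι, (L.get p.1).1 < (L.get p'.1).1 →
      ∃ a, uni Fix R a = true ∧ c (some p) a ≠ c (some p') a := fun p p' hlt => by
    obtain ⟨-, -, -, hR, -, -, -⟩ := hok _ (L.get_mem p'.1)
    refine ⟨_, (hlead p').1, ?_⟩
    rw [(hlead p').2]
    show cf p.1 p.2.1 p.2.2 _ ≠ _
    rw [hcp _ _ _ _ (by simp only [pin, hR, Bool.true_and, Bool.or_eq_true, decide_eq_true_eq]; exact Or.inr hlt.le),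
      sgl_ne (ne_of_gt hlt)]
    exact Ne.symm (Units.ne_zero _)
  have hsep : ∀ o o', o ≠ o' → ∃ a, uni Fix R a = true ∧ c o a ≠ c o' a := by
    intro o o' hoo
    rcases o with _ | p <;> rcases o' with _ | p'
    · exact absurd rfl hoo
    · exact ⟨_, (hlead p').1, by rw [(hlead p').2]; exact Ne.symm (Units.ne_zero _)⟩
    · exact ⟨_, (hlead p).1, by rw [(hlead p).2]; exact Units.ne_zero _⟩
    rcases lt_trichotomy (L.get p.1).1 (L.get p'.1).1 with hl | heq | hl
    · exact hlt p p' hl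
    · obtain ⟨j, u, d⟩ := p; obtain ⟨j', u', d'⟩ := p'
      obtain rfl : j = j' := Fin.ext ((hnd.getElem_inj_iff (i := j.val) (j := j'.val)
        (hi := by simp) (hj := by simp)).1 (by simpa using heq))
      by_cases hs : u = u'
      · subst hs
        obtain ⟨a, ha⟩ := Function.ne_iff.1 (show d ≠ d' from fun e => hoo (by rw [e]))
        obtain ⟨x, hx, hxa⟩ := List.mem_map.1 (List.mem_toFinset.1 a.2)
        obtain ⟨-, -, -, -, -, -, hf⟩ := hok _ (L.get_mem j)
        exact ⟨a.1, hxa ▸ fill_mem hf x hx, fun e => ha (Subtype.ext (by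
          show (d a).1 = (d' a).1
          rw [← hcd j u d a, ← hcd j u d' a]; exact e))⟩
      · refine ⟨_, (hlead ⟨j, u, d⟩).1, ?_⟩
        rw [(hlead ⟨j, u, d⟩).2, (hlead ⟨j, u', d'⟩).2]
        exact fun e => hs (Subtype.ext (Units.ext e))
    · obtain ⟨a, h1, h2⟩ := hlt p' p hl
      exact ⟨a, h1, Ne.symm h2⟩
  have hsum := finrank_sum_le (ρ := ρ) (uni Fix R) c hsep (fun o => Eig C ρ (uni Fix R) (c o))
    (Eig C ρ Fix 0) (fun o => Eig_mono fun a ha => ⟨uni_iff.2 (Or.inl ha), by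
      rcases o with _ | p
      · rfl
      · obtain ⟨-, -, -, -, hFix, -, -⟩ := hok _ (L.get_mem p.1)
        show cf p.1 p.2.1 p.2.2 a = 0
        rw [hcp _ _ _ a (by simp [pin, ha]), sgl_ne (fun e => by rw [e, hFix] at ha; exact Bool.false_ne_true ha)]⟩)
    (fun o => le_rfl)
  rw [Fintype.sum_option, add_comm] at hsum
  refine le_trans (Nat.add_le_add_right ?_ _) hsum
  refine le_trans (le_of_eq ?_) (Finset.card_nsmul_le_sum _ _ n fun p _ => hcm p.1 p.2.1 p.2.2)
  rw [Finset.card_univ, smul_eq_mul, Fintype.card_sigma]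
  simp only [Fintype.card_prod, card_Tgt]
  rw [← Finset.mul_sum, show Fintype.card U = q - 1 from by
      rw [← Nat.card_eq_fintype_card]; exact card_units_pow_eq_self C.hq.one_lt C.hK, mul_comm _ n, mul_assoc]
  congr 2
  show (L.map fun x => q ^ dimL x.2.2).sum = ∑ x : Fin L.length, q ^ dimL (L.get x).2.2
  rw [← Fin.sum_univ_fun_getElem]
  simp [List.get_eq_getElem]

end CfsgLib.TwE6Deg
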