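import Cfsg.Agent.Lib.TwE6Deg.Weyl

/-! The root combinatorics of the three steps. -/

set_option autoImplicit false
set_option linter.unusedSectionVars false
set_option linter.dupNamespace false
set_option maxRecDepth 100000
set_option maxHeartbeats 4000000
set_option Elab.async false
set_option synthInstance.maxSize 4096
set_option synthInstance.maxHeartbeats 400000

namespace CfsgLib.TwE6Deg

open Cfsg.Lie CfsgLib.Chev CfsgLib.Chev.Chev

/-- The roots with the given indices. -/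
def inL (L : List ℕ) (r : Rt) : Bool := L.contains r.val

/-- A set without one root. -/
def wo (S : Rt → Bool) (r : Rt) (b : Rt) : Bool := S b && !decide (b = r)

/-- No roots. -/
def none (_ : Rt) : Bool := false

/-- The centre of the radical. -/
def Zs : Rt → Bool := inL [60, 63, 65, 66, 68, 69, 70, 71]
/-- The extended centre for lines. -/
def Az : Rt → Bool := inL [60, 63, 65, 66, 68, 69, 70, 71, 36, 38, 41, 45, 56, 57, 58, 59, 54, 55, 64, 67]
/-- The centre and the part of the radical orthogonal to its top. -/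
def Z0U : Rt → Bool := inL [60, 63, 65, 66, 68, 69, 70, 71, 36, 38, 41, 45, 56, 57, 58, 59]
/-- The extended centre for two opposite roots. -/
def A8 : Rt → Bool := inL [60, 63, 65, 66, 68, 69, 70, 71, 45, 59, 41, 58, 54, 55, 64, 67]
/-- The roots of the centre other than the two outer ones. -/
def six : Rt → Bool := inL [63, 65, 66, 68, 69, 70]
/-- The second radical. -/
def R1 : Rt → Bool := inL [46, 47, 48, 50, 51, 53]
/-- The third radical. -/
def R2 : Rt → Bool := inL [39, 40, 43, 44]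
/-- The first two radicals. -/
def S1 : Rt → Bool := uni Zs R1
/-- The three radicals. -/
def S2 : Rt → Bool := uni S1 R2
/-- The centre moved by the first step. -/
def W1 : Rt → Bool := inL [11, 46, 47, 48, 50, 51, 53, 71]
/-- The roots after the first sum. -/
def T1 : Rt → Bool := wo S1 (rt 60)
/-- The first two radicals moved by the second step. -/
def W2 : Rt → Bool := inL [60, 63, 65, 66, 68, 69, 70, 71, 25, 39, 40, 43, 44, 53]
/-- The roots after the second sum. -/
def T2 : Rt → Bool := wo S2 (rt 46)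

noncomputable instance (S T : Rt → Bool) (g : Rt) : Decidable (Aok S T g) := by unfold Aok; infer_instance
noncomputable instance (S T : Rt → Bool) (g : Rt) : Decidable (Keep S T g) := by unfold Keep; infer_instance

noncomputable instance (S P T D : Rt → Bool) (g a i : Rt) : Decidable (FillAt S P T D g a i) :=
  decidable_of_iff ((∀ b, S b = true → Step S g b = true) ∧ Aok S T g ∧
      (∀ b, P b = true ∨ D b = true → S b = true ∧ Step T g b = true) ∧
      (Kin g a = true ∧ Z0 g a = false ∧ sm g a = i ∧ sr i = i ∧ P i = true) ∧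
      ((sr g = g ∧ sr a = a) ∨ (sr g ≠ g ∧ sr a ≠ a)) ∧ (S a = true ∧ P a = false))
    ⟨fun ⟨a, b, c, d, e, f⟩ => ⟨a, b, c, d, e, f⟩, fun ⟨a, b, c, d, e, f⟩ => ⟨a, b, c, d, e, f⟩⟩

noncomputable instance decSplit (T : Rt → Bool) : ∀ (S : Rt → Bool) (L : List Rt), Decidable (SplitOK T S L)
  | _, [] => isTrue trivial
  | S, a :: L =>
    haveI := decSplit T (ins S a) L
    inferInstanceAs (Decidable (_ ∧ _ ∧ _))

noncomputable instance decFill (S P T : Rt → Bool) (i : Rt) : ∀ (D : Rt → Bool) (L : List (Rt × Rt)),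
    Decidable (FillOK S P T i D L)
  | _, [] => isTrue trivial
  | D, (g, a) :: L =>
    haveI := decFill S P T i (fun b => D b || decide (b = a)) L
    inferInstanceAs (Decidable (_ ∧ _ ∧ _))

/-- A list of pairs of roots. -/
def prs (L : List (ℕ × ℕ)) : List (Rt × Rt) := L.map fun p => (rt p.1, rt p.2)

/-! ### The top -/

theorem top_split : SplitOK none (ins none (rt 71)) [rt 70, rt 69, rt 66, rt 65, rt 63, rt 60] ∧
    ∀ b, Zs b = true → insL (ins none (rt 71)) [rt 70, rt 69, rt 66, rt 65, rt 63, rt 60] b = true := by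
  decide +kernel

/-- The translations clearing the centre. -/
def nearL : List (Rt × Rt) := prs [(46, 70), (47, 69), (50, 66), (51, 65), (53, 63)]

theorem near_ok : FillOK Zs (inL [71]) none (rt 71) none nearL ∧
    ∀ b, Zs b = true → b = rt 71 ∨ b = rt 60 ∨ (∃ x ∈ nearL, x.2 = b ∨ sr x.2 = b) := by
  decide +kernel

theorem A8_ok : SplitOK six Zs [rt 54, rt 55, rt 45, rt 41] ∧
    (∀ b, A8 b = insL Zs [rt 54, rt 55, rt 45, rt 41] b) ∧
    FillOK A8 Zs six (rt 71) none (prs [(62, 54), (61, 55)]) ∧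
    FillOK A8 (uni Zs (inL [54, 55])) six (rt 60) none (prs [(56, 45), (57, 41)]) := by
  decide +kernel

theorem Az_ok : SplitOK (wo Zs (rt 71)) Zs [rt 36, rt 38, rt 41, rt 45, rt 54, rt 55] ∧
    (∀ b, Az b = insL Zs [rt 36, rt 38, rt 41, rt 45, rt 54, rt 55] b) ∧
    FillOK Az Z0U (wo Zs (rt 71)) (rt 71) none (prs [(62, 54), (61, 55)]) ∧
    (∀ b, Z0U b = true → Az b = true) ∧
    ∀ b, Az b = true → Z0U b = true ∨ b = rt 54 ∨ b = rt 55 ∨ b = sr (rt 54) ∨ b = sr (rt 55) := by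
  decide +kernel

/-- A root of the orthogonal part, a root moving it, and its source. -/
def killL : List (Rt × Rt × Rt) :=
  [(rt 41, rt 39, rt 38), (rt 36, rt 34, rt 38), (rt 45, rt 42, rt 41), (rt 38, rt 37, rt 36)]

theorem kill_ok : ∀ x ∈ killL, (∀ b, Az b = true → Step Az x.2.1 b = true) ∧ Aok Az (wo Zs (rt 71)) x.2.1 ∧
      (∀ b, Zs b = true → Step (wo Zs (rt 71)) x.2.1 b = true) ∧
      Kin x.2.1 x.2.2 = true ∧ Z0 x.2.1 x.2.2 = false ∧ sm x.2.1 x.2.2 = x.1 ∧ sr x.2.2 ≠ x.2.2 ∧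
      Z0U x.2.2 = true := by
  intro x hx
  simp only [killL, List.mem_cons, List.not_mem_nil, or_false] at hx
  rcases hx with rfl | rfl | rfl | rfl <;> decide +kernel

theorem kill_cover : ∀ b, Z0U b = true → Zs b = true ∨ ∃ x ∈ killL, x.1 = b ∨ sr x.1 = b := by
  decide +kernel

/-- The elements acting trivially on a line. -/
def five : Rt → Bool := inL [25, 39, 40, 43, 44]

theorem five_ok : ∀ g ∈ [rt 21, rt 43, rt 29, rt 37, rt 39], Keep Az (wo Az (rt 71)) g := by decide +kernel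

theorem five_kin : (Kin (rt 21) (rt 43) = true ∧ sm (rt 21) (rt 43) = rt 25 ∧ hb (rt 21) (rt 43) = false) ∧
    (Kin (rt 29) (rt 43) = true ∧ sm (rt 29) (rt 43) = rt 39 ∧ hb (rt 29) (rt 43) = false) ∧
    (Kin (rt 37) (rt 43) = true ∧ sm (rt 37) (rt 43) = rt 44 ∧ hb (rt 37) (rt 43) = false) ∧
    (Kin (rt 39) (rt 37) = true ∧ sm (rt 39) (rt 37) = rt 40 ∧ bb (rt 39) (rt 37) = rt 44) ∧
    sr (rt 40) = rt 43 ∧ ∀ b, five b = true → b = rt 25 ∨ b = rt 39 ∨ b = rt 40 ∨ b = rt 43 ∨ b = rt 44 := by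
  decide +kernel

theorem translate_fixed : ∀ k ∈ [rt 62, rt 61], Z0 k (rt 25) = true ∨
    (Kin k (rt 25) = true ∧ wo Az (rt 71) (sm k (rt 25)) = true ∧
      (hb k (rt 25) = true → wo Az (rt 71) (bb k (rt 25)) = true) ∧ Z0U (sm k (rt 25)) = true ∧
      (hb k (rt 25) = true → Z0U (bb k (rt 25)) = true)) := by
  decide +kernel

/-! ### The first step -/

/-- The word to the second root. -/
def w70 : List (Fin 4) := [0]
/-- The word to the bottom of the centre. -/
def w60 : List (Fin 4) := [0, 1, 2, 1, 0]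
/-- The reflection of the bottom of the centre. -/
def wB : List (Fin 4) := [3, 2, 1, 2, 3]

theorem step1_words :
    (∀ b, Zs b = true → Zs (wim w70.reverse b) = true ∧ Zs (wim w60.reverse b) = true ∧ Zs (wim w70 b) = true ∧
      Zs (wim w60 b) = true) ∧
    wim w70 (rt 71) = rt 70 ∧ wim w60 (rt 71) = rt 60 ∧ wim w60.reverse (rt 53) = rt 25 ∧
    wim wB (rt 70) = rt 53 ∧ (∀ b, W1 b = true → Zs (wim wB.reverse b) = true) ∧
    (∀ b, inL [63, 65, 66, 68, 69] b = true → five (wim w70.reverse (wim wB.reverse b)) = true) := by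
  decide +kernel

theorem step1_sum : (∀ b, W1 b = true → Step W1 (rt 70) b = true) ∧ Aok W1 (wo W1 (rt 53)) (rt 70) ∧
    (∀ b, W1 b = true → b ≠ rt 11 → Step (wo W1 (rt 53)) (rt 70) b = true) ∧
    Kin (rt 70) (rt 11) = true ∧ Z0 (rt 70) (rt 11) = false ∧ sm (rt 70) (rt 11) = rt 53 ∧
    sr (rt 11) = rt 11 ∧ sr (rt 70) = rt 70 ∧ sr (rt 53) = rt 53 ∧
    (∀ b, inL [63, 65, 66, 68, 69, 70] b = true → Z0 (rt 70) b = true) ∧
    (∀ b, T1 b = true → inL [63, 65, 66, 68, 69, 70] b = true ∨ (W1 b = true ∧ b ≠ rt 11)) ∧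
    Keep T1 (wo T1 (rt 53)) (rt 60) ∧ (∀ b, S1 b = true → b = rt 60 ∨ T1 b = true) ∧ sr (rt 60) = rt 60 ∧
    S1 (rt 53) = true ∧ Zs (rt 60) = true := by
  decide +kernel

/-! ### The second step -/

/-- The reflection of the second fundamental root. -/
def w2 : List (Fin 4) := [0]

theorem line51_ok : Keep S1 (wo S1 (rt 51)) (rt 29) ∧ Keep S1 (wo S1 (rt 51)) (rt 43) ∧
    Keep S1 (wo S1 (rt 51)) (rt 40) ∧ Keep S1 (wo S1 (rt 51)) (rt 40).rev ∧ sr (rt 40) ≠ rt 40 ∧
    Keep S1 (wo S1 (rt 46)) (rt 37) ∧ Keep S1 (wo S1 (rt 46)) (rt 43) := by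
  decide +kernel

theorem step2_words : wim w2 (rt 51) = rt 44 ∧ (∀ b, W2 b = true → S1 (wim w2.reverse b) = true) ∧
    ∀ b, inL [47, 48, 50] b = true → wim w2.reverse b = rt 39 ∨ wim w2.reverse b = rt 40 ∨
      wim w2.reverse b = rt 43 := by
  decide +kernel

theorem step2_sum : (∀ b, W2 b = true → Step W2 (rt 51) b = true) ∧ Aok W2 (wo W2 (rt 44)) (rt 51) ∧
    (∀ b, W2 b = true → b ≠ rt 25 → Step (wo W2 (rt 44)) (rt 51) b = true) ∧
    Kin (rt 51) (rt 25) = true ∧ Z0 (rt 51) (rt 25) = false ∧ sm (rt 51) (rt 25) = rt 44 ∧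
    sr (rt 25) = rt 25 ∧ sr (rt 51) = rt 51 ∧ sr (rt 44) = rt 44 ∧
    (∀ b, inL [47, 48, 50, 51] b = true → Z0 (rt 51) b = true) ∧
    (∀ b, T2 b = true → inL [47, 48, 50, 51] b = true ∨ (W2 b = true ∧ b ≠ rt 25)) ∧
    Keep T2 (wo T2 (rt 44)) (rt 46) ∧ (∀ b, S2 b = true → b = rt 46 ∨ T2 b = true) ∧ sr (rt 46) = rt 46 ∧
    S2 (rt 44) = true ∧ S1 (rt 46) = true := by
  decide +kernel

/-! ### The leaders -/

/-- The leaders of the centre with their words and translations. -/
def lead0 : List (Rt × List (Fin 4) × List (Rt × Rt)) :=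
  [(rt 60, w60, []), (rt 63, [1, 2, 1, 0], prs [(46, 60)]), (rt 65, [2, 1, 0], prs [(39, 63), (47, 60)]),
    (rt 69, [1, 0], prs [(42, 66), (44, 63), (51, 60)]),
    (rt 70, [0], prs [(39, 69), (43, 66), (44, 65), (53, 60)]), (rt 71, [], nearL)]

/-- The leaders of the second radical. -/
def lead1 : List (Rt × List (Fin 4) × List (Rt × Rt)) :=
  [(rt 46, [1, 2, 1], []), (rt 47, [2, 1], prs [(39, 46)]), (rt 51, [1], prs [(42, 48), (44, 46)]),
    (rt 53, [], prs [(39, 51), (43, 48), (44, 47)])]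

/-- The leaders of the third radical. -/
def lead2 : List (Rt × List (Fin 4) × List (Rt × Rt)) :=
  [(rt 39, [2], []), (rt 44, [], prs [(42, 40)])]

/-- The pinned roots of a leader. -/
def pin (Fix R : Rt → Bool) (i : Rt) (b : Rt) : Bool := Fix b || (R b && decide (i.val ≤ b.val))

/-- The conditions on the leaders of a radical. -/
def LeadOK (Fix R : Rt → Bool) (top : Rt) (L : List (Rt × List (Fin 4) × List (Rt × Rt))) : Prop :=
  ∀ x ∈ L, wim x.2.1 top = x.1 ∧ (∀ b, uni Fix R b = true → uni Fix R (wim x.2.1.reverse b) = true) ∧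
    (∀ b, uni Fix R b = true → uni Fix R (wim x.2.1 b) = true) ∧ R x.1 = true ∧ Fix x.1 = false ∧
    sr x.1 = x.1 ∧ FillOK (uni Fix R) (pin Fix R x.1) (wo (pin Fix R x.1) x.1) x.1 none x.2.2

theorem lead0_ok : LeadOK none Zs (rt 71) lead0 := by unfold LeadOK; decide +kernel
theorem lead1_ok : LeadOK Zs R1 (rt 53) lead1 := by unfold LeadOK; decide +kernel
theorem lead2_ok : LeadOK S1 R2 (rt 44) lead2 := by unfold LeadOK; decide +kernel

theorem cart_tops : CfsgLib.Chev.chevE6.A (T2E6.ix 1) (rt 71) = 1 ∧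
    CfsgLib.Chev.chevE6.A (T2E6.ix 1) (rt 47) = 1 ∧
    CfsgLib.Chev.chevE6.A (T2E6.ix 1) (rt 44) = -1 := by decide +kernel

end CfsgLib.TwE6Deg
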