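import Cfsg.Agent.Lib.TwE6Deg.Basic
import Cfsg.Agent.Lib.OrthDeg.Engine

/-! Common eigenspaces of root subgroups in representations of ²E₆. -/

set_option autoImplicit false
set_option linter.unusedSectionVars false
set_option linter.dupNamespace false
set_option maxRecDepth 100000
set_option maxHeartbeats 1000000
set_option synthInstance.maxSize 4096
set_option synthInstance.maxHeartbeats 400000

namespace CfsgLib.TwE6Deg

open Cfsg.Lie CfsgLib.Chev CfsgLib.Chev.Chev CfsgLib.Chev.T2E6

variable {K : Type*} [Field K] [Fintype K] {q : ℕ} (C : Ctx K q)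

/-! ### The additive character -/

include C in
theorem exists_twist : ∃ (l : K) (u : K), AddChar.FiniteField.primitiveChar_to_Complex K (l * Tr C u) ≠ 1 := by
  obtain ⟨v, hv⟩ := AddChar.ne_one_iff.1
    (AddChar.FiniteField.primitiveChar_to_Complex_isPrimitive K (one_ne_zero (α := K)))
  exact ⟨v, τ C, by simpa [Tr_τ] using hv⟩

/-- The character, invariant under the automorphism. -/
noncomputable def ψ : AddChar K ℂ where
  toFun x := AddChar.FiniteField.primitiveChar_to_Complex K ((exists_twist C).choose * Tr C x)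
  map_zero_eq_one' := by simp [Tr]
  map_add_eq_mul' x z := by rw [Tr_add, mul_add, AddChar.map_add_eq_mul]

theorem ψ_Tr_congr {x z : K} (h : Tr C x = Tr C z) : ψ C x = ψ C z := by
  show AddChar.FiniteField.primitiveChar_to_Complex K _ = _
  rw [h]; rfl

theorem ψ_fr (x : K) : ψ C (fr C x) = ψ C x := ψ_Tr_congr C (Tr_fr C x)

theorem ψ_Tr (x w : K) : ψ C (x * Tr C w) = ψ C (Tr C x * w) :=
  ψ_Tr_congr C (by simp only [Tr, map_mul, map_add, fr_fr]; ring)

theorem ψ_primitive : (ψ C).IsPrimitive := by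
  refine AddChar.IsPrimitive.of_ne_one (fun h => ?_)
  obtain ⟨u, hu⟩ := (exists_twist C).choose_spec
  exact hu (DFunLike.congr_fun h u)

theorem ψ_ne {a : K} (ha : a ≠ 0) : ∃ u : K, ψ C (a * u) ≠ 1 := by
  obtain ⟨u, hu⟩ := AddChar.ne_one_iff.1 (ψ_primitive C ha)
  exact ⟨u, by simpa using hu⟩

theorem ψ_sep {a b : K} (hab : a ≠ b) : ∃ u : K, ψ C (a * u) ≠ ψ C (b * u) := by
  obtain ⟨u, hu⟩ := ψ_ne C (sub_ne_zero.2 hab)
  refine ⟨u, fun e => hu ?_⟩
  rw [sub_mul, sub_eq_add_neg, AddChar.map_add_eq_mul, e, ← AddChar.map_add_eq_mul, add_neg_cancel,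
    AddChar.map_zero_eq_one]

theorem ψ_ker {c : K} (h : ∀ x, Tr C x = 0 → ψ C (c * x) = 1) : fr C c = c := by
  by_contra hne
  obtain ⟨u, hu⟩ := ψ_ne C (sub_ne_zero.2 (Ne.symm hne))
  have h1 := h (u - fr C u) (by simp only [Tr, map_sub, fr_fr]; ring)
  refine hu ?_
  have e : ψ C (-(fr C c * u)) = ψ C (-(c * fr C u)) := by
    rw [← ψ_fr C (-(fr C c * u))]
    congr 1
    simp only [map_neg, map_mul, fr_fr]
  rw [sub_mul, sub_eq_add_neg, AddChar.map_add_eq_mul, e, ← AddChar.map_add_eq_mul]
  rw [mul_sub, sub_eq_add_neg] at h1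
  exact h1

variable {k : ℕ} (ρ : Representation ℂ (GG K q) (Fin k → ℂ))

theorem rho_mul (g h : GG K q) (v : Fin k → ℂ) : ρ (g * h) v = ρ g (ρ h v) := by rw [map_mul]; rfl

theorem rho_inj {g : GG K q} {v : Fin k → ℂ} (h : ρ g v = 0) : v = 0 := by
  have := congrArg (ρ g⁻¹) h
  rwa [← rho_mul, inv_mul_cancel, map_one, map_zero, Module.End.one_apply] at this

/-- Vectors on which the root groups in `S` act by the characters `c`. -/
def Eig (S : Rt → Bool) (c : Rt → K) : Submodule ℂ (Fin k → ℂ) where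
  carrier := {v | ∀ a, S a = true → ∀ u : K, ρ (y C a u) v = ψ C (c a * u) • v}
  zero_mem' := fun a _ u => by simp
  add_mem' := fun {v w} hv hw a ha u => by rw [map_add, hv a ha u, hw a ha u, smul_add]
  smul_mem' := fun z v hv a ha u => by rw [map_smul, hv a ha u, smul_comm]

/-- The function supported at one root. -/
noncomputable def sgl (r : Rt) (s : K) (a : Rt) : K := if a = r then s else 0

theorem sgl_self (r : Rt) (s : K) : sgl r s r = s := if_pos rfl

theorem sgl_ne {r a : Rt} (h : a ≠ r) (s : K) : sgl r s a = 0 := if_neg h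

/-- The union of two sets of roots. -/
def uni (A B : Rt → Bool) (a : Rt) : Bool := A a || B a

theorem uni_iff {A B : Rt → Bool} {a : Rt} : uni A B a = true ↔ A a = true ∨ B a = true := Bool.or_eq_true_iff

variable {C ρ}

theorem Eig_mono {S S' : Rt → Bool} {c c' : Rt → K} (h : ∀ a, S' a = true → S a = true ∧ c a = c' a) :
    Eig C ρ S c ≤ Eig C ρ S' c' := fun v hv a ha u => by rw [hv a (h a ha).1 u, (h a ha).2]

theorem Eig_zero_fix {S : Rt → Bool} {c : Rt → K} {v : Fin k → ℂ} (hv : v ∈ Eig C ρ S c) {a : Rt}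
    (ha : S a = true) (hc : c a = 0) (u : K) : ρ (y C a u) v = v := by
  rw [hv a ha u, hc, zero_mul, AddChar.map_zero_eq_one, one_smul]

theorem Eig_fixed_val {S : Rt → Bool} {c : Rt → K} {v : Fin k → ℂ} (hv : v ∈ Eig C ρ S c) (h0 : v ≠ 0)
    {a : Rt} (ha : S a = true) (hs : sr a = a) : fr C (c a) = c a := by
  refine ψ_ker C fun x hx => smul_left_injective ℂ h0 (show ψ C (c a * x) • v = (1 : ℂ) • v from ?_)
  have e : y C a x = 1 := Subtype.ext (by rw [y_fixed C hs, hx, X_zero]; rfl)
  rw [← hv a ha x, e, map_one, one_smul]; rfl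

theorem Eig_eq_zero {S : Rt → Bool} {c : Rt → K} {v : Fin k → ℂ} (hv : v ∈ Eig C ρ S c) {a : Rt}
    (ha : S a = true) {u : K} (hfix : ρ (y C a u) v = v) (hne : ψ C (c a * u) ≠ 1) : v = 0 := by
  have e := hv a ha u
  rw [hfix] at e
  by_contra h0
  exact hne (smul_left_injective ℂ h0 (show ψ C (c a * u) • v = (1 : ℂ) • v by rw [one_smul]; exact e.symm))

/-! ### Moving characters -/

/-- A second term occurs. -/
noncomputable def hb (g a : Rt) : Bool := kA g a || kC g a

/-- The roots met by moving `a` with `g`. -/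
noncomputable def Met (T : Rt → Bool) (g a : Rt) : Bool := T (sm g a) && (!hb g a || T (bb g a))

/-- The element of `g` moves the character at `a` inside `S`, reading it on `T`. -/
noncomputable def Step (T : Rt → Bool) (g a : Rt) : Bool :=
  Z0 g a || if Kin g a then Met T g a else Kin g (sr a) && Met T g (sr a)

variable (C)

/-- The change of the character at `a`. -/
noncomputable def dd (g a : Rt) (t : K) (c : Rt → K) : K :=
  -(kap g a : K) * (if sr g = g then c (sm g a) * Tr C t
      else if sr a = a then Tr C (c (sm g a) * t) else c (sm g a) * t) +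
    if kC g a then Tr C (c (bb g a) * τ C * ((kap (sr g) (sm g a) : K) * kap g a * ee g) * (t * fr C t)) else 0

/-- Translation of the characters by a root element. -/
noncomputable def mv (g : Rt) (t : K) (c : Rt → K) (a : Rt) : K :=
  if Z0 g a then c a else if Kin g a then c a + dd C g a t c
  else c a + (ee a : K) * fr C (dd C g (sr a) t c)

variable {C}

theorem move_core {S : Rt → Bool} {c : Rt → K} {g a : Rt} (hK : Kin g a = true) (hm : Met S g a = true)
    (hA : kA g a = true → c (bb g a) = 0) (t w : K) {z : ℂ} {v : Fin k → ℂ} (hv : v ∈ Eig C ρ S c)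
    (hva : ρ (y C a w) v = z • v) :
    ρ (y C a w) (ρ (y C g t) v) = (z * ψ C (dd C g a t c * w)) • ρ (y C g t) v := by
  simp only [Met, Bool.and_eq_true, Bool.or_eq_true, Bool.not_eq_true'] at hm
  obtain ⟨h1, h2⟩ := hm
  have e2 : ρ (y C (bb g a) (m2 C g a t w)) v =
      ψ C ((if kC g a then Tr C (c (bb g a) * τ C * ((kap (sr g) (sm g a) : K) * kap g a * ee g) * (t * fr C t))
        else 0) * w) • v := by
    rcases Bool.eq_false_or_eq_true (kA g a) with hka | hka
    · have hkc : kC g a = false := by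
        simp only [kA, decide_eq_true_eq] at hka
        simp [kC, hka.1]
      rw [Eig_zero_fix hv (h2.resolve_left (by simp [hb, hka])) (hA hka), hkc, if_neg Bool.false_ne_true, zero_mul,
        AddChar.map_zero_eq_one, one_smul]
    rcases Bool.eq_false_or_eq_true (kC g a) with hkc | hkc
    · rw [hv _ (h2.resolve_left (by simp [hb, hkc])), if_pos hkc, ← ψ_Tr]
      congr 2
      rw [m2, if_neg (by simp [hka]), if_pos hkc]
      ring
    · rw [m2, if_neg (by simp [hka]), if_neg (by simp [hkc]), if_neg (by simp [hkc]), y_zero, map_one, zero_mul,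
        AddChar.map_zero_eq_one, one_smul]; rfl
  have e1 : ψ C (c (sm g a) * ((kap g a : K) * -m1 C g a t w)) = ψ C (-(kap g a : K) *
      (if sr g = g then c (sm g a) * Tr C t
        else if sr a = a then Tr C (c (sm g a) * t) else c (sm g a) * t) * w) := by
    unfold m1
    split_ifs with h3 h4
    · congr 1; ring
    · rw [show c (sm g a) * ((kap g a : K) * -(t * Tr C w)) = (-(kap g a : K) * (c (sm g a) * t)) * Tr C w by ring,
        ψ_Tr, Tr_mul C (by rw [map_neg, map_intCast])]
    · congr 1; ring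
  rw [← rho_mul, y_move C hK, rho_mul, rho_mul, rho_mul, e2, map_smul, hv _ h1]
  simp only [map_smul, hva, smul_smul]
  congr 1
  rw [dd, add_mul, AddChar.map_add_eq_mul, ← e1]
  ring

theorem move {S : Rt → Bool} {c : Rt → K} (g : Rt) (t : K) (hS : ∀ a, S a = true → Step S g a = true)
    (hA : ∀ a, S a = true ∨ S (sr a) = true → kA g a = true → Kin g a = true → c (bb g a) = 0)
    {v : Fin k → ℂ} (hv : v ∈ Eig C ρ S c) : ρ (y C g t) v ∈ Eig C ρ S (mv C g t c) := by
  intro a ha w
  have h := hS a ha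
  unfold Step at h
  unfold mv
  rcases Bool.eq_false_or_eq_true (Z0 g a) with h0 | h0
  · rw [if_pos h0, ← rho_mul, y_comm C h0, rho_mul, hv a ha w, map_smul]
  rw [h0, Bool.false_or] at h
  rw [if_neg (by simp [h0])]
  rcases Bool.eq_false_or_eq_true (Kin g a) with hK | hK
  · rw [if_pos hK] at h ⊢
    rw [move_core hK h (fun e => hA a (Or.inl ha) e hK) t w hv (hv a ha w), add_mul, AddChar.map_add_eq_mul]
  rw [if_neg (by simp [hK]), Bool.and_eq_true] at h
  rw [if_neg (by simp [hK])]
  obtain ⟨hK', hm⟩ := h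
  have hz : ρ (y C (sr a) ((ee a : K) * fr C w)) v = ψ C (c a * w) • v := by rw [y_swap]; exact hv a ha w
  have e := move_core hK' hm (fun e => hA _ (Or.inr (by rw [sr_sr]; exact ha)) e hK') t _ hv hz
  rw [y_swap] at e
  rw [e, add_mul, AddChar.map_add_eq_mul]
  congr 2
  rw [← ψ_fr C]
  congr 1
  rw [map_mul, map_mul, map_intCast, fr_fr]
  ring

theorem mv_eq {c : Rt → K} {T : Rt → Bool} {g a : Rt} (t : K) (h : Step T g a = true)
    (hz : ∀ b, T b = true → c b = 0) : mv C g t c a = c a := by
  have hd : ∀ b, Met T g b = true → dd C g b t c = 0 := by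
    intro b hm
    simp only [Met, Bool.and_eq_true, Bool.or_eq_true, Bool.not_eq_true'] at hm
    rw [dd, hz _ hm.1]
    rcases Bool.eq_false_or_eq_true (kC g b) with hk | hk
    · rw [if_pos hk, hz _ (hm.2.resolve_left (by simp [hb, hk]))]
      simp [Tr]
    · simp [hk, Tr]
  unfold Step at h
  unfold mv
  split_ifs with h0 hK
  · rfl
  · simp only [Bool.eq_false_iff.2 h0, Bool.false_or, hK, if_true] at h
    rw [hd _ h, add_zero]
  · simp only [Bool.eq_false_iff.2 h0, Bool.false_or, Bool.eq_false_iff.2 hK, Bool.false_eq_true, if_false,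
      Bool.and_eq_true] at h
    rw [hd _ h.2, map_zero, mul_zero, add_zero]

theorem finrank_le_of_move {A B : Submodule ℂ (Fin k → ℂ)} (g : GG K q) (h : ∀ v ∈ A, ρ g v ∈ B) :
    Module.finrank ℂ A ≤ Module.finrank ℂ B := by
  refine LinearMap.finrank_le_finrank_of_injective (f := (ρ g).restrict h) fun v w e => Subtype.ext ?_
  have e' := congrArg Subtype.val e
  simp only [LinearMap.coe_restrict_apply] at e'
  exact sub_eq_zero.1 (rho_inj ρ (g := g) (by rw [map_sub, e', sub_self]))

/-! ### Projections -/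

variable (C)

/-- The character with parameter `c`. -/
noncomputable def chr (c : K) : AddChar K ℂ := AddChar.mulShift (ψ C) c

theorem chr_apply (c u : K) : chr C c u = ψ C (c * u) := rfl

theorem chr_bijective : Function.Bijective (chr C) := by
  classical
  refine (Fintype.bijective_iff_injective_and_card _).2 ⟨fun a b h => ?_, (AddChar.card_eq).symm⟩
  by_contra hab
  obtain ⟨u, hu⟩ := ψ_sep C hab
  exact hu (DFunLike.congr_fun h u)

variable (ρ)

/-- The projection to the eigenvectors of one root group. -/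
noncomputable def Pj (a : Rt) (c : K) : Module.End ℂ (Fin k → ℂ) :=
  CfsgLib.RadicalBound.proj (y C a) ρ (chr C c)

variable {C ρ}

theorem y_Pj (a : Rt) (c u : K) (v : Fin k → ℂ) :
    ρ (y C a u) (Pj C ρ a c v) = ψ C (c * u) • Pj C ρ a c v := by
  have e := CfsgLib.RadicalBound.eig_proj (G := GG K q) (V := K) (y C a) (y_add C a) ρ (chr C c) u
  have e' := LinearMap.congr_fun e v
  rw [Module.End.mul_apply, LinearMap.smul_apply, chr_apply] at e'
  exact e'

theorem Pj_eigen [DecidableEq K] {a : Rt} (c c' : K) {v : Fin k → ℂ}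
    (hv : ∀ u, ρ (y C a u) v = ψ C (c' * u) • v) : Pj C ρ a c v = if c = c' then v else 0 := by
  classical
  rw [Pj, CfsgLib.RadicalBound.proj_eigen (y C a) ρ (chr C c) (chr C c') hv]
  simp only [(chr_bijective C).1.eq_iff]

theorem sum_Pj (a : Rt) (v : Fin k → ℂ) : ∑ c : K, Pj C ρ a c v = v := by
  have e := DFunLike.congr_fun
    (CfsgLib.OrthDeg.sum_proj (G := GG K q) (V := K) (y C a) ρ (y_add C a)) v
  rw [LinearMap.sum_apply, Module.End.one_apply] at e
  refine Eq.trans ?_ e
  exact Fintype.sum_bijective (chr C) (chr_bijective C) _ _ fun _ => rfl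

theorem Pj_mem {S T : Rt → Bool} {d : Rt → K} (a : Rt) (c : K)
    (hS : ∀ b, S b = true → Step S a b = true ∧ Step T a b = true)
    (hA : ∀ b, S b = true ∨ S (sr b) = true → kA a b = true → Kin a b = true → T (bb a b) = true)
    (hz : ∀ b, T b = true → d b = 0) {v : Fin k → ℂ} (hv : v ∈ Eig C ρ S d) :
    Pj C ρ a c v ∈ Eig C ρ S d := by
  have hm : ∀ u, ρ (y C a u) v ∈ Eig C ρ S d := fun u =>
    Eig_mono (c := mv C a u d) (fun b hb => ⟨hb, mv_eq u (hS b hb).2 hz⟩)
      (move a u (fun b hb => (hS b hb).1) (fun b hb h1 h2 => hz _ (hA b hb h1 h2)) hv)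
  simp only [Pj, CfsgLib.RadicalBound.proj, LinearMap.smul_apply, LinearMap.sum_apply]
  exact Submodule.smul_mem _ _ (Submodule.sum_mem _ fun u _ => Submodule.smul_mem _ _ (hm u))

/-- Eigenspaces for different characters are independent. -/
theorem finrank_sum_le {ι : Type*} [Fintype ι] (S : Rt → Bool) (c : ι → Rt → K)
    (hc : ∀ i j, i ≠ j → ∃ a, S a = true ∧ c i a ≠ c j a) (A : ι → Submodule ℂ (Fin k → ℂ))
    (W : Submodule ℂ (Fin k → ℂ)) (hW : ∀ i, A i ≤ W) (hA : ∀ i, A i ≤ Eig C ρ S (c i)) :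
    ∑ i, Module.finrank ℂ (A i) ≤ Module.finrank ℂ W := by
  classical
  have key : ∀ (n : ℕ) (s : Finset ι), s.card ≤ n → ∀ v : ι → Fin k → ℂ,
      (∀ i ∈ s, v i ∈ Eig C ρ S (c i)) → ∑ i ∈ s, v i = 0 → ∀ i ∈ s, v i = 0 := by
    intro n
    induction n with
    | zero => intro s hs v _ _ i hi; exact absurd (Finset.card_pos.2 ⟨i, hi⟩) (by omega)
    | succ n ih =>
      intro s hs v hv h0 i hi
      by_cases hone : ∀ j ∈ s, j = i
      · rwa [Finset.sum_eq_single i (fun j hj hne => absurd (hone j hj) hne) (fun h => absurd hi h)] at h0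
      push Not at hone
      obtain ⟨j, hj, hji⟩ := hone
      obtain ⟨a, ha, hne⟩ := hc i j (Ne.symm hji)
      obtain ⟨u, hu⟩ := ψ_sep C hne
      let w : ι → Fin k → ℂ := fun l => (ψ C (c l a * u) - ψ C (c j a * u)) • v l
      have hw : ∑ l ∈ s.erase j, w l = 0 := by
        have e1 : ρ (y C a u) (∑ l ∈ s, v l) - ψ C (c j a * u) • ∑ l ∈ s, v l = 0 := by
          rw [h0, map_zero, smul_zero, sub_zero]
        rw [map_sum, Finset.smul_sum, ← Finset.sum_sub_distrib,
          Finset.sum_congr rfl (g := w) (fun l hl => by rw [hv l hl a ha u, ← sub_smul])] at e1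
        rwa [← Finset.add_sum_erase s w hj,
          show w j = 0 by simp only [w, sub_self, zero_smul], zero_add] at e1
      have := ih (s.erase j) (by rw [Finset.card_erase_of_mem hj]; omega) w
        (fun l hl => Submodule.smul_mem _ _ (hv l (Finset.mem_of_mem_erase hl))) hw i
        (Finset.mem_erase.2 ⟨Ne.symm hji, hi⟩)
      exact (smul_eq_zero.1 this).resolve_left (sub_ne_zero.2 hu)
  let L : (∀ i, A i) →ₗ[ℂ] W :=
    ∑ i, (Submodule.inclusion (hW i)).comp (LinearMap.proj i)
  have hL : Function.Injective L := by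
    rw [← LinearMap.ker_eq_bot, LinearMap.ker_eq_bot']
    intro v hv
    funext i
    refine Subtype.ext (key _ Finset.univ le_rfl (fun l => (v l : Fin k → ℂ))
      (fun l _ => hA l (v l).2) ?_ i (Finset.mem_univ i))
    have := congrArg Subtype.val hv
    simpa [L, LinearMap.sum_apply, Submodule.coe_sum] using this
  have := LinearMap.finrank_le_finrank_of_injective hL
  rwa [Module.finrank_pi_fintype] at this

theorem finrank_pos {A : Submodule ℂ (Fin k → ℂ)} {v : Fin k → ℂ} (hv : v ∈ A) (h : v ≠ 0) :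
    0 < Module.finrank ℂ A :=
  Module.finrank_pos_iff_exists_ne_zero.2 ⟨⟨v, hv⟩, fun e => h (congrArg Subtype.val e)⟩

end CfsgLib.TwE6Deg
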