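import Cfsg.Agent.Lib.TwE6Deg.Stage2
import Cfsg.Agent.Lib.TwE6Deg.Arith
import Cfsg.Agent.Lib.CharTheory.Degree

/-! The smallest degree of ²E₆. -/

set_option autoImplicit false
set_option linter.unusedSectionVars false
set_option linter.dupNamespace false
set_option maxRecDepth 100000
set_option maxHeartbeats 1000000
set_option synthInstance.maxSize 4096
set_option synthInstance.maxHeartbeats 400000

namespace CfsgLib.TwE6Deg

open Cfsg.Lie CfsgLib.Chev CfsgLib.Chev.Chev CfsgLib.Chev.T2E6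

variable {K : Type*} [Field K] [Fintype K] {q : ℕ} {C : Ctx K q} {k : ℕ}
  {ρ : Representation ℂ (GG K q) (Fin k → ℂ)}

include C in
theorem dvd_ordP (hρ : ρ.IsIrreducible) : k ∣ ordP q := by
  haveI := hρ
  haveI : Fintype (GG K q) := Fintype.ofFinite _
  have h1 := CfsgLib.CharTheory.degree_dvd_index_of_scalar ρ ⊥ fun z hz => ⟨1, by
    rw [Subgroup.mem_bot.1 hz, map_one, one_smul]; rfl⟩
  rw [Subgroup.index_bot, Module.finrank_fintype_fun_eq_card, Fintype.card_fin] at h1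
  rw [ordP, ← T2E6.card_G C.hq C.hK]
  exact dvd_mul_of_dvd_right h1 _

include C in
theorem main (hρ : ρ.IsIrreducible) (hk : 2 ≤ k) : bnd q ≤ k := by
  by_contra hcon
  rw [not_le] at hcon
  have hq : 2 ≤ q := C.hq.one_lt
  obtain ⟨M, hMq, h71, h53⟩ := step1 (C := C) hρ hk hcon
  obtain ⟨n, hn, h44⟩ := step2 h53
  have c0 := cells_le (C := C) (ρ := ρ) lead0_ok (by decide +kernel) h71
  have c1 := cells_le (C := C) (ρ := ρ) lead1_ok (by decide +kernel) h53
  have c2 := cells_le (C := C) (ρ := ρ) lead2_ok (by decide +kernel) h44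
  obtain ⟨l0, l1, l2⟩ := lsum_lead q
  obtain ⟨s0, s1, s2⟩ := mul_sums q (by omega)
  rw [Eig_none, l0, mul_assoc] at c0
  rw [l1, one_mul] at c1
  rw [l2, mul_assoc] at c2
  have e0 : uni none Zs = Zs := funext fun _ => rfl
  rw [e0] at c0
  have e1 : uni Zs R1 = S1 := rfl
  rw [e1] at c1
  have h0 := Nat.mul_le_mul_right ((q - 1) * (1 + q + q ^ 2 + q ^ 4 + q ^ 5 + q ^ 6)) hMq
  have h2 := Nat.le_mul_of_pos_left ((q - 1) * (1 + q ^ 2)) hn
  have h3 : q ^ 4 * ((q - 1) * (1 + q + q ^ 2 + q ^ 4 + q ^ 5 + q ^ 6)) + q ^ 8 + q ^ 4 = q ^ 11 + q ^ 7 := by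
    linear_combination (q ^ 4) * s0
  have hb := bnd_eq q (by omega)
  have hd := dvd_ordP (C := C) hρ
  obtain ⟨n1, n2⟩ := not_dvd q hq
  rcases (show k = bnd q - 1 ∨ k = bnd q - 2 by omega) with e | e <;> rw [e] at hd
  exacts [n1 hd, n2 hd]

end CfsgLib.TwE6Deg
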