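import Cfsg.Agent.Lib.TwE6Deg.Top

/-! The pure characters of the second radical. -/

set_option autoImplicit false
set_option linter.unusedSectionVars false
set_option linter.dupNamespace false
set_option maxRecDepth 100000
set_option maxHeartbeats 1000000
set_option synthInstance.maxSize 4096
set_option synthInstance.maxHeartbeats 400000

namespace CfsgLib.TwE6Deg

open Cfsg.Lie CfsgLib.Chev CfsgLib.Chev.Chev CfsgLib.Chev.T2E6

/-! ### Numbers -/

/-- The bound. -/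
def bnd (q : ℕ) : ℕ := q * (q ^ 6 - q ^ 3 + 1) * (q ^ 4 + 1)

theorem bnd_eq (q : ℕ) (hq : 1 ≤ q) : bnd q + q ^ 8 + q ^ 4 = q ^ 11 + q ^ 7 + q ^ 5 + q := by
  have hle : q ^ 3 ≤ q ^ 6 := Nat.pow_le_pow_right hq (by norm_num)
  unfold bnd
  zify [hle]
  ring

theorem bnd_lt (q : ℕ) (hq : 2 ≤ q) : bnd q < q ^ 14 := by
  have h := bnd_eq q (by omega)
  have h1 : q ^ 7 ≤ q ^ 11 := Nat.pow_le_pow_right (by omega) (by norm_num)
  have h2 : q ^ 5 ≤ q ^ 11 := Nat.pow_le_pow_right (by omega) (by norm_num)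
  have h3 : q ≤ q ^ 11 := Nat.le_self_pow (by norm_num) q
  have h4 : q ^ 14 = q ^ 3 * q ^ 11 := by ring
  have h5 : 8 * q ^ 11 ≤ q ^ 3 * q ^ 11 := Nat.mul_le_mul_right _ (Nat.pow_le_pow_left hq 3)
  have h6 : 0 < q ^ 8 := pow_pos (by omega) 8
  omega

theorem lsum_lead (q : ℕ) : lsum lead0 q = 1 + q + q ^ 2 + q ^ 4 + q ^ 5 + q ^ 6 ∧
    lsum lead1 q = 1 + q + q ^ 3 + q ^ 4 ∧ lsum lead2 q = 1 + q ^ 2 := by
  have key : ∀ L : List (Rt × List (Fin 4) × List (Rt × Rt)),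
      lsum L q = ((L.map fun x => dimL x.2.2).map (q ^ ·)).sum := fun L => by
    simp [lsum, List.map_map, Function.comp_def]
  obtain ⟨-, -, -, h0, h1, h2⟩ := dims
  refine ⟨?_, ?_, ?_⟩
  · rw [key, h0]; simp; ring
  · rw [key, h1]; simp; ring
  · rw [key, h2]; simp

theorem mul_sums (q : ℕ) (hq : 1 ≤ q) :
    (q - 1) * (1 + q + q ^ 2 + q ^ 4 + q ^ 5 + q ^ 6) + q ^ 4 + 1 = q ^ 7 + q ^ 3 ∧
    (q - 1) * (1 + q + q ^ 3 + q ^ 4) + q ^ 3 + 1 = q ^ 5 + q ^ 2 ∧
    (q - 1) * (1 + q ^ 2) + q ^ 2 + 1 = q ^ 3 + q := by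
  obtain ⟨p, rfl⟩ : ∃ p, q = p + 1 := ⟨q - 1, by omega⟩
  refine ⟨?_, ?_, ?_⟩ <;> simp only [Nat.add_sub_cancel] <;> ring

/-! ### Combinatorics -/

theorem step1_more : wim (wB ++ w70) (rt 71) = rt 53 ∧
    (∀ b, W1 b = true → Az (wim (wB ++ w70).reverse b) = true) ∧
    (∀ b, inL [63, 65, 66, 68, 69] b = true → five (wim (wB ++ w70).reverse b) = true) ∧
    W1 (rt 11) = true ∧ inL [63, 65, 66, 68, 69, 70] (rt 53) = false ∧
    (∀ b, inL [63, 65, 66, 68, 69, 70] b = true → b = rt 70 ∨ inL [63, 65, 66, 68, 69] b = true) ∧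
    wim w60.reverse (rt 60) = rt 71 ∧ (∀ b, Zs b = true → Zs (wim w60 b) = true) ∧
    rt 53 ≠ rt 60 ∧ Zs (rt 53) = false ∧ (∀ b, Zs b = true → b = rt 60 ∨ T1 b = true) ∧ T1 (rt 53) = true ∧
    wim [2] (rt 47) = rt 51 ∧ wim [1] (rt 51) = rt 53 ∧
    (∀ l ∈ ([[2], [1]] : List (List (Fin 4))), ∀ b, S1 b = true →
      S1 (wim l.reverse b) = true ∧ S1 (wim l b) = true) ∧
    (∀ b, S1 b = true → uni Zs R1 b = true) := by
  decide +kernel

variable {K : Type*} [Field K] [Fintype K] {q : ℕ} {C : Ctx K q} {k : ℕ}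
  {ρ : Representation ℂ (GG K q) (Fin k → ℂ)}

/-- The sum over a root group of translates of a vector. -/
theorem sum_step {W T F : Rt → Bool} {g a i : Rt} {σ : K} (hσ : σ ≠ 0)
    (hS : ∀ b, W b = true → Step W g b = true) (hA : Aok W (wo W i) g)
    (hT : ∀ b, W b = true → b ≠ a → Step (wo W i) g b = true) (hK : Kin g a = true) (hZ : Z0 g a = false)
    (hsm : sm g a = i) (hg : sr g = g) (hWa : W a = true)
    (hF : ∀ b, F b = true → Z0 g b = true) (hcov : ∀ b, T b = true → F b = true ∨ (W b = true ∧ b ≠ a))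
    (hFi : F i = false) {v : Fin k → ℂ} (hv : v ∈ Eig C ρ W (sgl i σ)) (hv0 : v ≠ 0)
    (hfix : ∀ b, F b = true → b = g ∨ ∀ u, ρ (y C b u) v = v) :
    ∃ z, z ≠ 0 ∧ z ∈ Eig C ρ T (sgl i σ) := by
  classical
  have hz : ∀ b, wo W i b = true → sgl i σ b = 0 := fun b hb => sgl_ne (by simp [wo] at hb; exact hb.2) _
  have hm : ∀ t, ρ (y C g t) v ∈ Eig C ρ W (mv C g t (sgl i σ)) := fun t =>
    move g t hS (fun b hb h1 h2 => hz _ (hA b hb h1 h2)) hv
  refine ⟨∑ t : K, ρ (y C g t) v, fun h0 => ?_, fun b hb u => ?_⟩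
  · have hkc : kC g a = false := by simp [kC, hg]
    have hval : ∀ t, mv C g t (sgl i σ) a = sgl i σ a + -(kap g a : K) * (σ * Tr C t) := fun t => by
      simp [mv, hZ, hK, dd, hg, hkc, hsm, sgl_self]
    have hne : (kap g a : K) ≠ 0 := by
      have hN : Nc g a ≠ 0 := by simp only [Kin, decide_eq_true_eq] at hK; exact hK.1
      rcases (terms_ok g a hN).2 with e | e <;> simp [e]
    have hterm : ∀ t, Pj C ρ a (sgl i σ a) (ρ (y C g t) v) = if Tr C t = 0 then v else 0 := fun t => by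
      rw [Pj_eigen (sgl i σ a) (mv C g t (sgl i σ) a) (fun u => hm t a hWa u), hval]
      by_cases ht : Tr C t = 0
      · have e : y C g t = 1 := Subtype.ext (by rw [y_fixed C hg, ht, X_zero]; rfl)
        rw [if_pos ht, ht, mul_zero, mul_zero, add_zero, if_pos rfl, e, map_one]; rfl
      · rw [if_neg ht, if_neg]
        rw [eq_comm, add_eq_left]
        exact mul_ne_zero (neg_ne_zero.2 hne) (mul_ne_zero hσ ht)
    have e := congrArg (Pj C ρ a (sgl i σ a)) h0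
    rw [map_sum, map_zero, Finset.sum_congr rfl (fun t _ => hterm t), ← Finset.sum_filter, Finset.sum_const,
      smul_eq_zero] at e
    exact (e.resolve_right hv0) |> fun h => absurd (Finset.card_eq_zero.1 h)
      (Finset.ne_empty_of_mem (a := (0 : K)) (Finset.mem_filter.2 ⟨Finset.mem_univ _, by simp [Tr]⟩))
  · rw [map_sum, Finset.smul_sum]
    rcases hcov b hb with hb' | ⟨hb', hba⟩
    · have hbi : b ≠ i := fun e => by rw [e, hFi] at hb'; exact Bool.false_ne_true hb'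
      simp only [sgl_ne hbi, zero_mul, AddChar.map_zero_eq_one, one_smul]
      rcases hfix b hb' with rfl | hf
      · refine Fintype.sum_equiv (Equiv.addLeft u) _ _ fun t => ?_
        rw [← rho_mul, ← y_add]; rfl
      · exact Finset.sum_congr rfl fun t _ => by rw [← rho_mul, y_comm C (hF b hb'), rho_mul, hf u]
    · refine Finset.sum_congr rfl fun t _ => ?_
      rw [hm t b hb' u, mv_eq t (hT b hb' hba) hz]

/-- The last projection lands on a pure character. -/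
theorem last_step {T S : Rt → Bool} {i j : Rt} {σ : K} (hk : Keep T (wo T i) j) (hj : sr j = j)
    (hcov : ∀ b, S b = true → b = j ∨ T b = true) (hij : i ≠ j) {z : Fin k → ℂ} (hz0 : z ≠ 0)
    (hz : z ∈ Eig C ρ T (sgl i σ))
    (hno : ∀ (c : K) (w : Fin k → ℂ), c ≠ 0 → fr C c = c → w ∈ Eig C ρ T (sgl i σ) →
      (∀ u, ρ (y C j u) w = ψ C (c * u) • w) → w = 0) :
    0 < Module.finrank ℂ (Eig C ρ S (sgl i σ)) := by
  classical
  obtain ⟨c, hc⟩ : ∃ c : K, Pj C ρ j c z ≠ 0 := by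
    by_contra hcon
    push Not at hcon
    exact hz0 (by rw [← sum_Pj (C := C) (ρ := ρ) j z]; exact Finset.sum_eq_zero fun c _ => hcon c)
  have hm := Pj_mem j c hk.1 hk.2 (fun b hb => sgl_ne (by simp [wo] at hb; exact hb.2) σ) hz
  have hjw : ∀ u, ρ (y C j u) (Pj C ρ j c z) = ψ C (c * u) • Pj C ρ j c z := fun u => y_Pj j c u z
  obtain rfl : c = 0 := by
    by_contra h0
    refine hc (hno c _ h0 ?_ hm hjw)
    exact Eig_fixed_val (S := fun b => decide (b = j)) (c := fun _ => c)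
      (fun b hb u => by rw [of_decide_eq_true hb]; exact hjw u) hc (a := j) (by simp) hj
  refine finrank_pos (v := Pj C ρ j 0 z) ?_ hc
  intro b hb u
  rcases hcov b hb with rfl | hbT
  · rw [hjw u, sgl_ne (Ne.symm hij)]
  · exact hm b hbT u

/-- The two first radicals. -/
theorem step1 (hρ : ρ.IsIrreducible) (hk : 2 ≤ k) (hsmall : k < bnd q) :
    ∃ M, q ^ 4 ≤ M ∧ Const C ρ (uni none Zs) (rt 71) M ∧ Const C ρ (uni Zs R1) (rt 53) 1 := by
  classical
  have hq : 2 ≤ q := C.hq.one_lt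
  obtain ⟨hs0, hs1, -⟩ := mul_sums q (by omega)
  obtain ⟨hl0, hl1, -⟩ := lsum_lead q
  have hb := bnd_eq q (by omega)
  have hun : uni none Zs = Zs := funext fun b => rfl
  set M := Module.finrank ℂ (Eig C ρ Zs (sgl (rt 71) (1 : K))) with hMdef
  have hM : Const C ρ Zs (rt 71) M := const_torus (Or.inl cart_tops.1)
  have hM1 : 0 < M := pure_pos hρ hk (hsmall.trans (bnd_lt q hq))
  have hc0 := cells_le (C := C) (ρ := ρ) lead0_ok (by decide +kernel) (n := M) (by rw [hun]; exact hM)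
  rw [Eig_none, hun, hl0, mul_assoc] at hc0
  have hM2 : M < 2 * q ^ 4 := by
    by_contra hh
    have h1 := Nat.mul_le_mul_right ((q - 1) * (1 + q + q ^ 2 + q ^ 4 + q ^ 5 + q ^ 6)) (not_lt.1 hh)
    have h2 : 2 * q ^ 4 * ((q - 1) * (1 + q + q ^ 2 + q ^ 4 + q ^ 5 + q ^ 6)) + 2 * q ^ 8 + 2 * q ^ 4 =
        2 * q ^ 11 + 2 * q ^ 7 := by
      linear_combination (2 * q ^ 4) * hs0
    have h3 : q ^ 5 + q + q ^ 8 ≤ q ^ 11 := by
      have a1 : q ^ 5 ≤ q ^ 8 := Nat.pow_le_pow_right (by omega) (by norm_num)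
      have a2 : q ≤ q ^ 8 := Nat.le_self_pow (by norm_num) q
      have a3 : q ^ 11 = q ^ 3 * q ^ 8 := by ring
      have a4 : 8 * q ^ 8 ≤ q ^ 3 * q ^ 8 := Nat.mul_le_mul_right _ (Nat.pow_le_pow_left hq 3)
      omega
    have h4 : q ^ 4 ≤ q ^ 7 := Nat.pow_le_pow_right (by omega) (by norm_num)
    omega
  have hline := line (C := C) (ρ := ρ) hM hM2 (map_one _) one_ne_zero hM1
  have hMq : q ^ 4 ≤ M := by
    have h1 := translate_le (C := C) (ρ := ρ) (c := sgl (rt 71) (1 : K)) one_ne_zero (fun _ _ => rfl)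
    rw [hline, mul_one] at h1
    exact h1.trans (Submodule.finrank_mono (Eig_mono fun b hb => ⟨tiny.2.2.2.2.2.1 b hb, rfl⟩))
  refine ⟨M, hMq, by rw [hun]; exact hM, ?_⟩
  obtain ⟨v0, hv0, hv00⟩ := exists_ne (show 0 < Module.finrank ℂ (Eig C ρ Az (sgl (rt 71) (1 : K))) by omega)
  obtain ⟨hw, hWA, hWfive, hW11, hF53, hFcov, hw60, hZ60, h5360, hZs53, hZT, hT53, hw47, hw51, hwS, hS1⟩ := step1_more
  have hv := move_nW_sgl (wB ++ w70) hWA hv0
  rw [hw] at hv
  set σ : K := (wet (wB ++ w70) (rt 71) : K) * 1 with hσdef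
  have hσ : σ ≠ 0 ∧ fr C σ = σ := by
    rcases wet_unit (wB ++ w70) (rt 71) with e | e <;> simp [hσdef, e]
  obtain ⟨hS, hA, hT, hK, hZ, hsm, -, hg, -, hF, hcov, hkeep, hS1T, h60, -, -⟩ := step1_sum
  obtain ⟨z, hz0, hz⟩ := sum_step hσ.1 hS hA hT hK hZ hsm hg hW11 hF hcov hF53 hv
    (fun e => hv00 (rho_inj ρ e))
    (fun b hb => (hFcov b hb).imp id fun h u => fix_nW _
      (fun u => five_fix hM hM2 hM1 (map_one _) one_ne_zero (hWfive b h) u hv0) u)
  have hpos : 0 < Module.finrank ℂ (Eig C ρ S1 (sgl (rt 53) σ)) := by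
    refine last_step hkeep h60 hS1T h5360 hz0 hz fun c w hc hcf hw hj => ?_
    have hwz : w ∈ Eig C ρ Zs (sgl (rt 60) c) := fun b hb u => by
      rcases hZT b hb with rfl | hbT
      · rw [sgl_self]; exact hj u
      · have hb53 : b ≠ rt 53 := fun e => by rw [e, hZs53] at hb; exact Bool.false_ne_true hb
        have hb60 : b ≠ rt 60 := fun e => by rw [e] at hbT; exact absurd hbT (by decide +kernel)
        rw [hw b hbT u, sgl_ne hb53, sgl_ne hb60]
    have hw' := move_nW_sgl w60.reverse (S' := Zs) (fun b hb => by rw [List.reverse_reverse]; exact hZ60 b hb) hwz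
    rw [hw60] at hw'
    set s' : K := (wet w60.reverse (rt 60) : K) * c with hs'def
    have hs' : s' ≠ 0 ∧ fr C s' = s' := by
      rcases wet_unit w60.reverse (rt 60) with e | e <;> simp [hs'def, e, hc, hcf]
    obtain ⟨u, hu⟩ := ψ_ne C hσ.1
    refine Eig_eq_zero hw hT53 (u := u) ?_ (by rwa [sgl_self])
    refine sub_eq_zero.1 (rho_inj ρ (g := nW C w60.reverse) ?_)
    rw [map_sub, ← rho_mul, nW_y, rho_mul, step1_words.2.2.2.1,
      whole_fix hM hM2 hM1 hs'.2 hs'.1 _ hw', sub_self]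
  have h47 : Const C ρ S1 (rt 47) (Module.finrank ℂ (Eig C ρ S1 (sgl (rt 47) (1 : K)))) :=
    const_torus (Or.inl cart_tops.2.1)
  have h53 := (h47.word [2] hw47 (fun b hb => (hwS _ (by simp) b hb).1) (fun b hb => (hwS _ (by simp) b hb).2)).word
    [1] hw51 (fun b hb => (hwS _ (by simp) b hb).1) (fun b hb => (hwS _ (by simp) b hb).2)
  rw [h53 σ hσ.2 hσ.1] at hpos
  set n := Module.finrank ℂ (Eig C ρ S1 (sgl (rt 47) (1 : K)))
  have hn : n < 2 := by
    by_contra hh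
    have hc1 := cells_le (C := C) (ρ := ρ) lead1_ok (by decide +kernel) (n := n) h53
    rw [hl1, mul_assoc] at hc1
    have h1 := Nat.mul_le_mul_right ((q - 1) * (1 + q + q ^ 3 + q ^ 4)) (not_lt.1 hh)
    have h2 := Nat.mul_le_mul_right ((q - 1) * (1 + q + q ^ 2 + q ^ 4 + q ^ 5 + q ^ 6)) hMq
    have h3 : q ^ 4 * ((q - 1) * (1 + q + q ^ 2 + q ^ 4 + q ^ 5 + q ^ 6)) + q ^ 8 + q ^ 4 = q ^ 11 + q ^ 7 := by
      linear_combination (q ^ 4) * hs0
    have h4 : 2 * ((q - 1) * (1 + q + q ^ 3 + q ^ 4)) + 2 * q ^ 3 + 2 = 2 * q ^ 5 + 2 * q ^ 2 := by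
      linear_combination 2 * hs1
    have h5 : q + 2 * q ^ 3 + 2 ≤ q ^ 5 + 2 * q ^ 2 := by
      have a1 : 4 * q ^ 3 ≤ q ^ 2 * q ^ 3 := Nat.mul_le_mul_right _ (Nat.pow_le_pow_left hq 2)
      have a2 : q ^ 5 = q ^ 2 * q ^ 3 := by ring
      have a3 : q ≤ q ^ 3 := Nat.le_self_pow (by norm_num) q
      have a4 : 2 ≤ q ^ 2 := le_trans hq (Nat.le_self_pow (by norm_num) q)
      omega
    omega
  have hn1 : n = 1 := by omega
  rw [hn1] at h53
  exact h53

end CfsgLib.TwE6Deg
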