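import Cfsg.Agent.Lib.TwE6Deg.Stage1

/-! The pure characters of the third radical. -/

set_option autoImplicit false
set_option linter.unusedSectionVars false
set_option linter.dupNamespace false
set_option maxRecDepth 100000
set_option maxHeartbeats 1000000
set_option synthInstance.maxSize 4096
set_option synthInstance.maxHeartbeats 400000

namespace CfsgLib.TwE6Deg

open Cfsg.Lie CfsgLib.Chev CfsgLib.Chev.Chev CfsgLib.Chev.T2E6

theorem step2_more : W2 (rt 25) = true ∧ inL [47, 48, 50, 51] (rt 44) = false ∧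
    (∀ b, inL [47, 48, 50, 51] b = true → b = rt 51 ∨ inL [47, 48, 50] b = true) ∧
    rt 44 ≠ rt 46 ∧ S1 (rt 44) = false ∧ (∀ b, S1 b = true → b = rt 46 ∨ T2 b = true) ∧ T2 (rt 44) = true ∧
    T2 (rt 46) = false ∧ rt 44 ≠ rt 51 ∧
    (∃ L, (rt 51, ([1] : List (Fin 4)), L) ∈ lead1) ∧ (∃ L, (rt 46, ([1, 2, 1] : List (Fin 4)), L) ∈ lead1) := by
  refine ⟨by decide +kernel, by decide +kernel, by decide +kernel, by decide +kernel, by decide +kernel,
    by decide +kernel, by decide +kernel, by decide +kernel, by decide +kernel,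
    ⟨prs [(42, 48), (44, 46)], by simp [lead1]⟩, ⟨[], by simp [lead1]⟩⟩

variable {K : Type*} [Field K] [Fintype K] {q : ℕ} {C : Ctx K q} {k : ℕ}
  {ρ : Representation ℂ (GG K q) (Fin k → ℂ)}

/-- The third radical. -/
theorem step2 (h53 : Const C ρ (uni Zs R1) (rt 53) 1) :
    ∃ n, 0 < n ∧ Const C ρ (uni S1 R2) (rt 44) n := by
  classical
  obtain ⟨hW25, hF44, hFcov, h4446, hS44, hST, hT44, hT46, -, ⟨L51, hL51⟩, ⟨L46, hL46⟩⟩ := step2_more
  have h51 : Const C ρ S1 (rt 51) 1 := by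
    obtain ⟨hw, h1, h2, -⟩ := lead1_ok _ hL51
    exact h53.word _ hw h1 h2
  have h46 : Const C ρ S1 (rt 46) 1 := by
    obtain ⟨hw, h1, h2, -⟩ := lead1_ok _ hL46
    exact h53.word _ hw h1 h2
  obtain ⟨k29, k43, k40, k40', s40, k37, k43'⟩ := line51_ok
  obtain ⟨-, ⟨kin39, e39, b39⟩, ⟨kin44, e44, b44⟩, -, hsr40, -⟩ := five_kin
  have hp : ∀ {g r : Rt} {s : K}, Keep S1 (wo S1 r) g → ∀ t, ∀ w ∈ Eig C ρ S1 (sgl r s),
      ρ (y C g t) w ∈ Eig C ρ S1 (sgl r s) := fun {g r s} h t w hw =>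
    keep_pres h (fun b hb => sgl_ne (by simp [wo] at hb; exact hb.2) _) t hw
  have f44 : ∀ {s : K}, fr C s = s → s ≠ 0 → ∀ (u : K), ∀ w ∈ Eig C ρ S1 (sgl (rt 46) s),
      ρ (y C (rt 44) u) w = w := fun hs hs0 u w hw =>
    e44 ▸ trivial_comm (h46 _ hs hs0) kin44 (hp k37) (hp k43') (fun h => by simp [b44] at h) u hw
  have h1 := h51 1 (map_one _) one_ne_zero
  obtain ⟨v0, hv0, hv00⟩ := exists_ne (show 0 < Module.finrank ℂ (Eig C ρ S1 (sgl (rt 51) (1 : K))) by omega)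
  have f39 : ∀ u, ρ (y C (rt 39) u) v0 = v0 := fun u =>
    e39 ▸ trivial_comm h1 kin39 (hp k29) (hp k43) (fun h => by simp [b39] at h) u hv0
  have f40 : ∀ u, ρ (y C (rt 40) u) v0 = v0 := fun u => trivial_pair h1 s40 (hp k40) (hp k40') u hv0
  have f43 : ∀ u, ρ (y C (rt 43) u) v0 = v0 := fun u => by
    rw [← y_swap C (rt 43) u, ← hsr40, sr_sr]
    exact f40 _
  obtain ⟨hw2, hW, hfives⟩ := step2_words
  have hv := move_nW_sgl w2 hW hv0
  rw [hw2] at hv
  set σ : K := (wet w2 (rt 51) : K) * 1 with hσdef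
  have hσ : σ ≠ 0 ∧ fr C σ = σ := by
    rcases wet_unit w2 (rt 51) with e | e <;> simp [hσdef, e]
  obtain ⟨hS, hA, hT, hK, hZ, hsm, -, hg, -, hF, hcov, hkeep, hS2T, hs46, -, -⟩ := step2_sum
  obtain ⟨z, hz0, hz⟩ := sum_step hσ.1 hS hA hT hK hZ hsm hg hW25 hF hcov hF44 hv (fun e => hv00 (rho_inj ρ e))
    (fun b hb => (hFcov b hb).imp id fun h u => fix_nW _ (fun u => by
      rcases hfives b h with e | e | e <;> rw [e]
      exacts [f39 u, f40 u, f43 u]) u)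
  have hpos : 0 < Module.finrank ℂ (Eig C ρ S2 (sgl (rt 44) σ)) := by
    refine last_step hkeep hs46 hS2T h4446 hz0 hz fun c w hc hcf hw hj => ?_
    have hwz : w ∈ Eig C ρ S1 (sgl (rt 46) c) := fun b hb u => by
      rcases hST b hb with rfl | hbT
      · rw [sgl_self]; exact hj u
      · have hb44 : b ≠ rt 44 := fun e => by rw [e, hS44] at hb; exact Bool.false_ne_true hb
        have hb46 : b ≠ rt 46 := fun e => by rw [e, hT46] at hbT; exact Bool.false_ne_true hbT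
        rw [hw b hbT u, sgl_ne hb44, sgl_ne hb46]
    obtain ⟨u, hu⟩ := ψ_ne C hσ.1
    exact Eig_eq_zero hw hT44 (u := u) (f44 hcf hc u w hwz) (by rwa [sgl_self])
  have h44 : Const C ρ S2 (rt 44) (Module.finrank ℂ (Eig C ρ S2 (sgl (rt 44) (1 : K)))) :=
    const_torus (Or.inr cart_tops.2.2)
  exact ⟨_, (h44 σ hσ.2 hσ.1) ▸ hpos, h44⟩

end CfsgLib.TwE6Deg
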