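import Cfsg.Agent.Lib.TwE6Deg.Eig

/-! Lines, their trivially acting elements, successive projections and translations. -/

set_option autoImplicit false
set_option linter.unusedSectionVars false
set_option linter.dupNamespace false
set_option maxRecDepth 100000
set_option maxHeartbeats 1000000
set_option synthInstance.maxSize 4096
set_option synthInstance.maxHeartbeats 400000

namespace CfsgLib.TwE6Deg

open Cfsg.Lie CfsgLib.Chev CfsgLib.Chev.Chev CfsgLib.Chev.T2E6

/-- Adding an orbit. -/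
noncomputable def ins (S : Rt → Bool) (a : Rt) (b : Rt) : Bool := S b || decide (b = a ∨ b = sr a)

/-- Adding several orbits. -/
noncomputable def insL (S : Rt → Bool) : List Rt → Rt → Bool
  | [] => S
  | a :: L => insL (ins S a) L

/-- The second terms read by `g` on `S` lie in `T`. -/
def Aok (S T : Rt → Bool) (g : Rt) : Prop :=
  ∀ b, S b = true ∨ S (sr b) = true → kA g b = true → Kin g b = true → T (bb g b) = true

/-- The element of `g` respects `S`, reading only zeros on `T`. -/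
def Keep (S T : Rt → Bool) (g : Rt) : Prop :=
  (∀ b, S b = true → Step S g b = true ∧ Step T g b = true) ∧ Aok S T g

/-- The orbits in the list can be adjoined by projection. -/
def SplitOK (T : Rt → Bool) : (Rt → Bool) → List Rt → Prop
  | _, [] => True
  | S, a :: L => Keep S T a ∧ (∀ b, b = a ∨ b = sr a → S b = false ∧ T b = false) ∧ SplitOK T (ins S a) L

/-- One translation. -/
structure FillAt (S P T D : Rt → Bool) (g a i : Rt) : Prop where
  step : ∀ b, S b = true → Step S g b = true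
  aok : Aok S T g
  keep : ∀ b, P b = true ∨ D b = true → S b = true ∧ Step T g b = true
  kin : Kin g a = true ∧ Z0 g a = false ∧ sm g a = i ∧ sr i = i ∧ P i = true
  kind : (sr g = g ∧ sr a = a) ∨ (sr g ≠ g ∧ sr a ≠ a)
  mem : S a = true ∧ P a = false

/-- A chain of translations. -/
def FillOK (S P T : Rt → Bool) (i : Rt) : (Rt → Bool) → List (Rt × Rt) → Prop
  | _, [] => True
  | D, (g, a) :: L => FillAt S P T D g a i ∧ D a = false ∧ FillOK S P T i (fun b => D b || decide (b = a)) L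

theorem pair_two : ∀ g : Rt, ∑ k, CfsgLib.Chev.chevE6.C g k * CfsgLib.Chev.chevE6.A k g = 2 := by
  decide +kernel

theorem orth_ok : ∀ g : Rt, sr g ≠ g → ∀ x, (x = g ∨ x = g.rev) → ∀ z, (z = sr g ∨ z = (sr g).rev) →
    Nc x z = 0 ∧ z ≠ x.rev := by decide +kernel

variable {K : Type*} [Field K] [Fintype K] {q : ℕ} {C : Ctx K q} {k : ℕ}
  {ρ : Representation ℂ (GG K q) (Fin k → ℂ)}

theorem scalar {E : Submodule ℂ (Fin k → ℂ)} (h1 : Module.finrank ℂ E = 1) {g : GG K q}
    (hg : ∀ v ∈ E, ρ g v ∈ E) : ∃ a : ℂ, ∀ v ∈ E, ρ g v = a • v := by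
  obtain ⟨w, hw0, hw⟩ := finrank_eq_one_iff'.1 h1
  obtain ⟨a, ha⟩ := hw ⟨_, hg w w.2⟩
  refine ⟨a, fun v hv => ?_⟩
  obtain ⟨b, hb⟩ := hw ⟨v, hv⟩
  have hb' : b • (w : Fin k → ℂ) = v := congrArg Subtype.val hb
  have ha' : a • (w : Fin k → ℂ) = ρ g w := congrArg Subtype.val ha
  rw [← hb', map_smul, ← ha', smul_comm]

theorem keep_pres {S T : Rt → Bool} {c : Rt → K} {g : Rt} (h : Keep S T g) (hz : ∀ b, T b = true → c b = 0)
    (t : K) {v : Fin k → ℂ} (hv : v ∈ Eig C ρ S c) : ρ (y C g t) v ∈ Eig C ρ S c :=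
  Eig_mono (fun b hb => ⟨hb, mv_eq t (h.1 b hb).2 hz⟩)
    (move g t (fun b hb => (h.1 b hb).1) (fun b hb h1 h2 => hz _ (h.2 b hb h1 h2)) hv)

/-- A commutator of two elements preserving a line acts trivially on it. -/
theorem trivial_comm {E : Submodule ℂ (Fin k → ℂ)} (h1 : Module.finrank ℂ E = 1) {g a : Rt}
    (hK : Kin g a = true) (hg : ∀ t, ∀ v ∈ E, ρ (y C g t) v ∈ E) (ha : ∀ t, ∀ v ∈ E, ρ (y C a t) v ∈ E)
    (hbb : hb g a = true → ∀ u, ∀ v ∈ E, ρ (y C (bb g a) u) v = v) (u : K) {v : Fin k → ℂ} (hv : v ∈ E) :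
    ρ (y C (sm g a) u) v = v := by
  have hk2 : (kap g a : K) * kap g a = 1 := by
    have hN : Nc g a ≠ 0 := by
      simp only [Kin, decide_eq_true_eq] at hK
      exact hK.1
    rcases (terms_ok g a hN).2 with e | e <;> simp [e]
  obtain ⟨t, w, htw⟩ : ∃ t w, (kap g a : K) * -m1 C g a t w = u := by
    by_cases h3 : sr g = g
    · exact ⟨τ C, -(kap g a : K) * u, by rw [m1, if_pos h3, Tr_τ]; linear_combination u * hk2⟩
    by_cases h4 : sr a = a
    · exact ⟨-(kap g a : K) * u, τ C, by rw [m1, if_neg h3, if_pos h4, Tr_τ]; linear_combination u * hk2⟩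
    · exact ⟨1, -(kap g a : K) * u, by rw [m1, if_neg h3, if_neg h4]; linear_combination u * hk2⟩
  have hb2 : ρ (y C (bb g a) (m2 C g a t w)) v = v := by
    rcases Bool.eq_false_or_eq_true (hb g a) with h | h
    · exact hbb h _ v hv
    · simp only [hb, Bool.or_eq_false_iff] at h
      rw [m2, if_neg (by simp [h.1]), if_neg (by simp [h.2]), y_zero, map_one]; rfl
  obtain ⟨zg, hzg⟩ := scalar h1 (hg t)
  obtain ⟨za, hza⟩ := scalar h1 (ha w)
  have e := congrArg (fun x => ρ x v) (y_move C hK t w)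
  simp only [rho_mul, htw] at e
  rw [hb2, hzg v hv, map_smul, hza v hv, smul_smul] at e
  refine sub_eq_zero.1 (rho_inj ρ (g := y C g t * y C a w) ?_)
  rw [rho_mul, map_sub, map_sub, hza v hv, map_smul, hzg v hv, smul_smul, ← e, mul_comm za zg, sub_self]

/-- An element of a pair of orbits preserving a line together with its opposite acts trivially on it. -/
theorem trivial_pair {E : Submodule ℂ (Fin k → ℂ)} (h1 : Module.finrank ℂ E = 1) {g : Rt} (hg : sr g ≠ g)
    (hp : ∀ t, ∀ v ∈ E, ρ (y C g t) v ∈ E) (hn : ∀ t, ∀ v ∈ E, ρ (y C g.rev t) v ∈ E) (u : K)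
    {v : Fin k → ℂ} (hv : v ∈ E) : ρ (y C g u) v = v := by
  classical
  obtain ⟨t, ht⟩ : ∃ t : Kˣ, (t : K) ^ 2 ≠ 1 := by
    by_contra hcon
    push Not at hcon
    have hsub : (Finset.univ : Finset Kˣ) ⊆ {1, -1} := fun t _ => by
      rcases sq_eq_one_iff.1 (hcon t) with e | e
      · simp [Units.ext_iff, e]
      · simp [Units.ext_iff, e]
    have hcard := (Finset.card_le_card hsub).trans Finset.card_le_two
    rw [Finset.card_univ, Fintype.card_units, C.hK] at hcard
    have := C.hq.one_lt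
    nlinarith [Nat.sub_add_cancel (show 1 ≤ q ^ 2 by nlinarith)]
  let n : Kˣ → GG K q := fun t => y C g (t : K) * y C g.rev (-(t : K)⁻¹) * y C g (t : K)
  let h : GG K q := n t * n (-1)
  let e : Kˣ := if ee g = 1 then 1 else -1
  have he : (e : K) = ee g := by rcases (sr_ok g).2.1 with h | h <;> simp [e, h]
  let fru : Kˣ → Kˣ := fun t => e * Units.map (fr C : K →* K) t
  have hnv : ∀ t : Kˣ, (n t : GL Cfsg.Lie.chevE6.Idx K) =
      CfsgLib.Chev.chevE6.nw g t * CfsgLib.Chev.chevE6.nw (sr g) (fru t) := by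
    intro t
    have o := orth_ok g hg
    have c : ∀ x z, (x = g ∨ x = g.rev) → (z = sr g ∨ z = (sr g).rev) → ∀ a b : K, Commute (X x a) (X z b) :=
      fun x z hx hz a b => (X_comm (o x hx z hz).2 (o x hx z hz).1 a b).symm
    have hinv : (ee g : K) * fr C (-(t : K)⁻¹) = -((ee g : K) * fr C (t : K))⁻¹ := by
      have hi : (ee g : K)⁻¹ = ee g := inv_eq_of_mul_eq_one_right (ee_sq (K := K) g)
      rw [map_neg, map_inv₀, mul_inv, hi, mul_neg]
    simp only [n, Subgroup.coe_mul, y_val, CfsgLib.Chev.Chev.nw, (sr_ok g).2.2.2.2.2.1, (sr_ok g).2.2.2.2.2.2.1,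
      hinv, fru, Units.val_mul, he, Units.coe_map, MonoidHom.coe_coe]
    have k1 := c g.rev (sr g) (Or.inr rfl) (Or.inl rfl) (-(t : K)⁻¹) ((ee g : K) * fr C (t : K))
    have k2 := c g (sr g) (Or.inl rfl) (Or.inl rfl) (t : K) ((ee g : K) * fr C (t : K))
    have k3 := c g (sr g).rev (Or.inl rfl) (Or.inr rfl) (t : K) (-((ee g : K) * fr C (t : K))⁻¹)
    simp only [ga_]
    rw [← mul_assoc (X (sr g) _) (X g.rev _), ← k1.eq]
    simp only [ga_]
    rw [← mul_assoc (X (sr g).rev _) (X g _), ← k3.eq]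
    simp only [ga_]
    rw [← mul_assoc (X (sr g) _) (X g _), ← k2.eq]
    simp only [ga_]
  have hh : ∀ w : K, (h : GL Cfsg.Lie.chevE6.Idx K) * X g w = X g ((t : K) ^ 2 * w) * (h : GL Cfsg.Lie.chevE6.Idx K) := by
    intro w
    have o := orth_ok g hg
    have c : ∀ x, (x = g ∨ x = g.rev) → ∀ (a : K) (s : Kˣ),
        Commute (CfsgLib.Chev.chevE6.nw (sr g) s) (X x a) := fun x hx a s => by
      have k : ∀ z, (z = sr g ∨ z = (sr g).rev) → ∀ b : K, Commute (X z b) (X x a) :=
        fun z hz b => X_comm (o x hx z hz).2 (o x hx z hz).1 a b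
      exact ((k _ (Or.inl rfl) _).mul_left (k _ (Or.inr rfl) _)).mul_left (k _ (Or.inl rfl) _)
    have cn : ∀ s s' : Kˣ, Commute (CfsgLib.Chev.chevE6.nw (sr g) s) (CfsgLib.Chev.chevE6.nw g s') := fun s s' =>
      ((c g (Or.inl rfl) _ s).mul_right (c g.rev (Or.inr rfl) _ s)).mul_right (c g (Or.inl rfl) _ s)
    have hval : (h : GL Cfsg.Lie.chevE6.Idx K) = CfsgLib.Chev.chevE6.hw g t *
        (CfsgLib.Chev.chevE6.nw (sr g) (fru t) * CfsgLib.Chev.chevE6.nw (sr g) (fru (-1))) := by
      show ((n t * n (-1) : GG K q) : GL Cfsg.Lie.chevE6.Idx K) = _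
      rw [Subgroup.coe_mul, hnv, hnv, CfsgLib.Chev.Chev.hw]
      simp only [ga_]
      rw [← mul_assoc (CfsgLib.Chev.chevE6.nw (sr g) (fru t)), (cn (fru t) (-1)).eq]
      simp only [ga_]
    have hw2 : CfsgLib.Chev.chevE6.hw g t * X g w = X g ((t : K) ^ 2 * w) * CfsgLib.Chev.chevE6.hw g t := by
      rw [CfsgLib.Chev.chevE6.hw_eq]
      show _ * CfsgLib.Chev.chevE6.toAlg.xg g w = _
      rw [CfsgLib.Chev.chevE6.toAlg.torus_xg, CfsgLib.Chev.chevE6.chi_coChar]
      congr 3
      rw [pair_two]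
      simp [pow_two, zpow_two]
    rw [hval, mul_assoc, ((c g (Or.inl rfl) w _).mul_left (c g (Or.inl rfl) w _)).eq, ← mul_assoc, hw2, mul_assoc]
  have hy : ∀ w : K, h * y C g w = y C g ((t : K) ^ 2 * w) * h := by
    intro w
    have happ : (tw C.hq C.hK).app (h : GL Cfsg.Lie.chevE6.Idx K) = h := by
      have := h.2
      exact (show (h : GL Cfsg.Lie.chevE6.Idx K) ∈ (tw C.hq C.hK).fix from eq_fix C.hq C.hK ▸ h.2).2
    have hmem : (h : GL Cfsg.Lie.chevE6.Idx K) ∈ Cfsg.Lie.chevE6.group K :=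
      (show (h : GL Cfsg.Lie.chevE6.Idx K) ∈ (tw C.hq C.hK).fix from eq_fix C.hq C.hK ▸ h.2).1
    have e2 := congrArg (tw C.hq C.hK).app (hh w)
    rw [Tw.app_mul _ hmem (X_mem _ _), Tw.app_mul _ (X_mem _ _) hmem, happ, app_X C, app_X C] at e2
    refine Subtype.ext ?_
    simp only [Subgroup.coe_mul, y_val]
    rw [← mul_assoc, hh, mul_assoc (X g _), e2, ← mul_assoc]
  obtain ⟨zh, hzh⟩ := scalar h1 (g := h) (fun v hv => by
    simp only [h, n, rho_mul]
    exact hp _ _ (hn _ _ (hp _ _ (hp _ _ (hn _ _ (hp _ _ hv))))))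
  obtain ⟨za, hza⟩ := scalar h1 (hp (u / ((t : K) ^ 2 - 1)))
  have e := congrArg (fun x => ρ x v) (hy (u / ((t : K) ^ 2 - 1)))
  simp only [rho_mul] at e
  rw [hzh v hv, map_smul, hza v hv, map_smul, hzh v hv, smul_smul,
    show (t : K) ^ 2 * (u / ((t : K) ^ 2 - 1)) = u + u / ((t : K) ^ 2 - 1) by
      field_simp [sub_ne_zero.2 ht]; ring, y_add, rho_mul, hza v hv, map_smul, smul_smul] at e
  by_cases h0 : v = 0
  · rw [h0, map_zero]
  have hn0 : zh * za ≠ 0 := mul_ne_zero
    (fun h' => h0 (rho_inj ρ (g := h) (by rw [hzh v hv, h', zero_smul])))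
    (fun h' => h0 (rho_inj ρ (g := y C g (u / ((t : K) ^ 2 - 1))) (by rw [hza v hv, h', zero_smul])))
  refine smul_right_injective _ hn0 ?_
  show (zh * za) • ρ (y C g u) v = (zh * za) • v
  rw [← e, mul_comm za zh]

/-- A property of vectors closed under sums is verified on the components. -/
theorem split {T : Rt → Bool} (Q : Submodule ℂ (Fin k → ℂ)) :
    ∀ (L : List Rt) (S : Rt → Bool), SplitOK T S L → ∀ c : Rt → K, (∀ b, T b = true → c b = 0) →
      (∀ c' : Rt → K, (∀ b, S b = true → c' b = c b) → (∀ b, T b = true → c' b = 0) →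
        Eig C ρ (insL S L) c' ≤ Q) → Eig C ρ S c ≤ Q
  | [], S, _, c, hz, h => h c (fun _ _ => rfl) hz
  | a :: L, S, hok, c, hz, h => by
    obtain ⟨hk, hfr, hok'⟩ := hok
    intro v hv
    rw [← sum_Pj (C := C) (ρ := ρ) a v]
    refine Submodule.sum_mem _ fun x _ => ?_
    set c' : Rt → K := fun b => if b = a then x else if b = sr a then (ee a : K) * fr C x else c b with hc'
    have hold : ∀ b, S b = true ∨ T b = true → c' b = c b := fun b hb => by
      have : ¬(b = a ∨ b = sr a) := fun e => by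
        rcases hb with hb | hb
        · rw [(hfr b e).1] at hb; exact Bool.false_ne_true hb
        · rw [(hfr b e).2] at hb; exact Bool.false_ne_true hb
      rw [not_or] at this
      simp only [hc', if_neg this.1, if_neg this.2]
    refine split Q L (ins S a) hok' c' (fun b hb => by rw [hold b (Or.inr hb), hz b hb])
      (fun c'' h1 h2 => h c'' (fun b hb => by
        rw [h1 b (by simp [ins, hb]), hold b (Or.inl hb)]) h2) ?_
    have hm := Pj_mem a x hk.1 hk.2 hz hv
    intro b hb u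
    simp only [ins, Bool.or_eq_true, decide_eq_true_eq] at hb
    by_cases hba : b = a
    · subst hba
      simp only [hc', if_pos]
      exact y_Pj b x u v
    by_cases hbs : b = sr a
    · subst hbs
      simp only [hc', if_neg hba, if_pos]
      have e : y C (sr a) u = y C a ((ee a : K) * fr C u) := by
        rw [← y_swap C (sr a) u, sr_sr, (sr_ok a).2.2.1]
      rw [e, y_Pj, ← ψ_fr C ((ee a : K) * fr C x * u)]
      congr 2
      simp only [map_mul, map_intCast, fr_fr]
      ring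
    · have hbS : S b = true := hb.resolve_right (by simp [hba, hbs])
      rw [hold b (Or.inl hbS)]
      exact hm b hbS u

/-- Translations give prescribed values. -/
theorem fill {S P T : Rt → Bool} {i : Rt} (hTP : ∀ b, T b = true → P b = true) :
    ∀ (L : List (Rt × Rt)) (D : Rt → Bool), FillOK S P T i D L → ∀ (c d : Rt → K) {v0 : Fin k → ℂ},
      v0 ∈ Eig C ρ S c → v0 ≠ 0 → (∀ b, T b = true → c b = 0) → c i ≠ 0 →
      (∀ b, sr b = b → fr C (d b) = d b) →
      ∃ (h : GG K q) (c' : Rt → K), h ∈ Submonoid.closure {x | ∃ p ∈ L, ∃ t, x = y C p.1 t} ∧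
        (∀ v ∈ Eig C ρ S c, ρ h v ∈ Eig C ρ S c') ∧
        (∀ b, P b = true ∨ D b = true → c' b = c b) ∧ ∀ x ∈ L, c' x.2 = d x.2
  | [], D, _, c, d, _, _, _, _, _, _ => ⟨1, c, one_mem _, fun v hv => by rw [map_one]; exact hv, fun _ _ => rfl, by simp⟩
  | (g, a) :: L, D, hok, c, d, v0, hv0, hne, hz, hi, hd => by
    obtain ⟨hat, hDa, hok'⟩ := hok
    obtain ⟨hK, hZ, hS, hfi, hPi⟩ := hat.kin
    have hN : Nc g a ≠ 0 := by simp only [Kin, decide_eq_true_eq] at hK; exact hK.1
    have hk2 : (kap g a : K) * kap g a = 1 := by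
      rcases (terms_ok g a hN).2 with e | e <;> simp [e]
    have hkf : fr C ((kap g a : K)) = kap g a := map_intCast _ _
    have hci : fr C (c i) = c i := Eig_fixed_val hv0 hne (hat.keep i (Or.inl hPi)).1 hfi
    obtain ⟨t, ht⟩ : ∃ t, mv C g t c a = d a := by
      simp only [mv, hZ, Bool.false_eq_true, if_false, hK, if_true, dd, hS]
      rcases hat.kind with ⟨hg, ha⟩ | ⟨hg, ha⟩
      · have hkc : kC g a = false := by simp [kC, hg]
        refine ⟨(c a - d a) * kap g a / c i * τ C, ?_⟩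
        have hca : fr C (c a) = c a := Eig_fixed_val hv0 hne hat.mem.1 ha
        rw [if_pos hg, hkc, if_neg Bool.false_ne_true,
          Tr_surj C (by rw [map_div₀, map_mul, map_sub, hca, hd a ha, hkf, hci])]
        field_simp
        linear_combination (-(c a - d a)) * hk2
      · have hkc : kC g a = false := by simp [kC, ha]
        refine ⟨(c a - d a) * kap g a / c i, ?_⟩
        rw [if_neg hg, if_neg ha, hkc, if_neg Bool.false_ne_true]
        field_simp
        linear_combination (-(c a - d a)) * hk2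
    have hmv : ∀ v ∈ Eig C ρ S c, ρ (y C g t) v ∈ Eig C ρ S (mv C g t c) := fun v hv =>
      move g t hat.step (fun b hb h1 h2 => hz _ (hat.aok b hb h1 h2)) hv
    have hsame : ∀ b, P b = true ∨ D b = true → mv C g t c b = c b := fun b hb => mv_eq t (hat.keep b hb).2 hz
    obtain ⟨h, c', h0, h1, h2, h3⟩ := fill hTP L _ hok' (mv C g t c) d (hmv v0 hv0) (fun e => hne (rho_inj ρ e))
      (fun b hb => by rw [hsame b (Or.inl (hTP b hb)), hz b hb]) (by rw [hsame i (Or.inl hPi)]; exact hi) hd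
    refine ⟨h * y C g t, c', mul_mem (Submonoid.closure_mono (fun x hx => by
        obtain ⟨p, hp, t, rfl⟩ := hx
        exact ⟨p, List.mem_cons_of_mem _ hp, t, rfl⟩) h0)
      (Submonoid.subset_closure ⟨(g, a), List.mem_cons_self, t, rfl⟩), fun v hv => by rw [rho_mul]; exact h1 _ (hmv v hv), fun b hb => ?_, fun x hx => ?_⟩
    · rw [h2 b (hb.imp id fun e => by simp [e]), hsame b hb]
    · rcases List.mem_cons.1 hx with rfl | hx
      · rw [h2 a (Or.inr (by simp)), ht]
      · exact h3 x hx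

end CfsgLib.TwE6Deg
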