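import Cfsg.Agent.Lib.TwE6Deg.Count

/-! The pure characters of the centre and their lines. -/

set_option autoImplicit false
set_option linter.unusedSectionVars false
set_option linter.dupNamespace false
set_option maxRecDepth 100000
set_option maxHeartbeats 1000000
set_option synthInstance.maxSize 4096
set_option synthInstance.maxHeartbeats 400000

namespace CfsgLib.TwE6Deg

open Cfsg.Lie CfsgLib.Chev CfsgLib.Chev.Chev CfsgLib.Chev.T2E6

/-- The lists of translations below the two outer roots. -/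
def lA : List (Rt × Rt) := prs [(62, 54), (61, 55)]
/-- The lists of translations below the two outer roots. -/
def lB : List (Rt × Rt) := prs [(56, 45), (57, 41)]

theorem dims : dimL nearL = 6 ∧ dimL lA = 4 ∧ dimL lB = 4 ∧
    lead0.map (fun x => dimL x.2.2) = [0, 1, 2, 4, 5, 6] ∧
    lead1.map (fun x => dimL x.2.2) = [0, 1, 3, 4] ∧ lead2.map (fun x => dimL x.2.2) = [0, 2] := by
  decide +kernel

theorem tiny : sr (rt 71) = rt 71 ∧ sr (rt 60) = rt 60 ∧ Zs (rt 71) = true ∧ Zs (rt 60) = true ∧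
    (∀ b, Zs b = true → A8 b = true) ∧ (∀ b, Zs b = true → Z0U b = true) ∧
    (∀ b, Z0U b = true → Az b = true) ∧ (∀ x ∈ lA, sr x.2 ≠ x.2) ∧
    (∀ b, uni Zs (inL [54, 55]) b = true → A8 b = true) ∧
    (∀ b, Zs b = true → Zs (sr b) = true) ∧ (∀ b, Z0U b = true → Z0U (sr b) = true) ∧
    (∀ b, Az b = true → Az (sr b) = true) ∧
    (∀ x ∈ nearL, Zs x.2 = true) ∧ (∀ x ∈ lA, Az x.2 = true) ∧
    tgts nearL = {rt 70, rt 69, rt 66, rt 65, rt 63} ∧ (∀ b, inL [71] b = true → Zs b = true ∧ b = rt 71) := by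
  decide +kernel

variable {K : Type*} [Field K] [Fintype K] {q : ℕ} {C : Ctx K q} {k : ℕ}
  {ρ : Representation ℂ (GG K q) (Fin k → ℂ)}

include C in
theorem faithful (hρ : ρ.IsIrreducible) (hk : 2 ≤ k) {g : GG K q} (hg : ρ g = 1) : g = 1 := by
  haveI := (T2E6.simple C.hq C.hK).1
  rcases IsSimpleGroup.eq_bot_or_eq_top_of_normal (MonoidHom.ker ρ) inferInstance with h | h
  · rw [← Subgroup.mem_bot, ← h]
    exact hg
  · exfalso
    have hall : ∀ x, ρ x = 1 := fun x => MonoidHom.mem_ker.1 (h ▸ Subgroup.mem_top x)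
    haveI : IsSimpleOrder (Subrepresentation ρ) := hρ
    let w : Fin k → ℂ := Pi.single ⟨0, by omega⟩ 1
    let U : Subrepresentation ρ := ⟨ℂ ∙ w, fun x v hv => by rw [hall x]; exact hv⟩
    have hw : w ≠ 0 := fun h => by simpa [w] using congrFun h ⟨0, by omega⟩
    rcases IsSimpleOrder.eq_bot_or_eq_top U with hU | hU
    · exact hw (Submodule.span_singleton_eq_bot.1 (congrArg Subrepresentation.toSubmodule hU))
    · have e : (ℂ ∙ w) = ⊤ := congrArg Subrepresentation.toSubmodule hU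
      have := finrank_span_singleton (K := ℂ) hw
      rw [e, finrank_top, Module.finrank_fintype_fun_eq_card, Fintype.card_fin] at this
      omega

theorem exists_char (hρ : ρ.IsIrreducible) (hk : 2 ≤ k) :
    ∃ (c : Rt → K) (v : Fin k → ℂ), v ≠ 0 ∧ v ∈ Eig C ρ Zs c ∧ c (rt 71) ≠ 0 := by
  classical
  obtain ⟨s, v, hs, hv⟩ : ∃ (s : K) (v : Fin k → ℂ), s ≠ 0 ∧ Pj C ρ (rt 71) s v ≠ 0 := by
    by_contra hcon
    push Not at hcon
    have h1 : y C (rt 71) (τ C) = 1 := faithful (C := C) hρ hk (LinearMap.ext fun v => by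
      have h0 : Pj C ρ (rt 71) 0 v = v := by
        conv_rhs => rw [← sum_Pj (C := C) (ρ := ρ) (rt 71) v]
        rw [Finset.sum_eq_single 0 (fun c _ hc => hcon c v hc) (by simp)]
      have e1 := y_Pj (C := C) (ρ := ρ) (rt 71) 0 (τ C) v
      rw [h0, zero_mul, AddChar.map_zero_eq_one, one_smul] at e1
      exact e1)
    have h2 : X (rt 71) (Tr C (τ C)) = 1 := by rw [← y_fixed C tiny.1, h1]; rfl
    rw [Tr_τ] at h2
    exact one_ne_zero (α := K) (CfsgLib.Chev.chevE6.toAlg.xg_eq_one_iff.1 h2)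
  have hm : Pj C ρ (rt 71) s v ∈ Eig C ρ (ins none (rt 71)) (sgl (rt 71) s) := by
    intro b hb u
    simp only [ins, none, Bool.false_or, decide_eq_true_eq, tiny.1, or_self] at hb
    rw [hb, sgl_self]
    exact y_Pj (rt 71) s u v
  by_contra hcon
  push Not at hcon
  have := split (C := C) (ρ := ρ) (⊥ : Submodule ℂ (Fin k → ℂ)) _ _ top_split.1 (sgl (rt 71) s) (fun _ h => by simp [none] at h)
    (fun c' h1 _ w hw => (Submodule.mem_bot ℂ).2 (by
      by_contra hw0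
      refine hs ?_
      rw [← sgl_self (rt 71) s, ← h1 _ (by simp [ins])]
      exact hcon c' w hw0 (Eig_mono (fun b hb => ⟨top_split.2 b hb, rfl⟩) hw))) hm
  exact hv ((Submodule.mem_bot ℂ).1 this)

/-- Two opposite non-zero values make the orbit large. -/
theorem big {c : Rt → K} (hs : c (rt 71) ≠ 0) (hr : c (rt 60) ≠ 0) (hz : ∀ b, six b = true → c b = 0)
    (hpos : 0 < Module.finrank ℂ (Eig C ρ Zs c)) : q ^ 14 ≤ k := by
  classical
  have hsix : ∀ b, six b = true → Zs b = true := by decide +kernel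
  obtain ⟨c2, h21, h22⟩ : ∃ c2 : Rt → K, (∀ b, Zs b = true → c2 b = c b) ∧
      0 < Module.finrank ℂ (Eig C ρ A8 c2) := by
    by_contra hcon
    push Not at hcon
    obtain ⟨v, hv, hv0⟩ := exists_ne hpos
    refine hv0 ((Submodule.mem_bot ℂ).1 (split (C := C) (ρ := ρ) ⊥ _ _ A8_ok.1 c hz (fun c' h1 _ => ?_) hv))
    rw [← funext A8_ok.2.1]
    exact le_of_eq (Submodule.finrank_eq_zero.1 (Nat.le_zero.1 (hcon c' h1)))
  have hz2 : ∀ b, six b = true → c2 b = 0 := fun b hb => by rw [h21 b (hsix b hb), hz b hb]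
  choose cf hf1 hf2 hf3 using fill_family (C := C) (ρ := ρ) A8_ok.2.2.1 hsix h22 hz2
    (by rw [h21 _ tiny.2.2.1]; exact hs)
  have hq4 : ∀ d : Tgt C (prs [(62, 54), (61, 55)]), q ^ 4 ≤ Module.finrank ℂ (Eig C ρ (uni Zs (inL [54, 55])) (cf d)) := fun d => by
    have := fill_sum (C := C) (ρ := ρ) A8_ok.2.2.2 (fun b hb => uni_iff.2 (Or.inl (hsix b hb))) tiny.2.2.2.2.2.2.2.2.1
      (c := cf d) (by rw [hf1 d _ tiny.2.2.2.1, h21 _ tiny.2.2.2.1]; exact hr)
      (fun b hb => by rw [hf1 d b (hsix b hb), hz2 b hb])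
    refine le_trans ?_ this
    rw [show dimL (prs [(56, 45), (57, 41)]) = 4 from dims.2.2.1]
    exact Nat.le_mul_of_pos_right _ (lt_of_lt_of_le h22 (hf2 d))
  have hsum := finrank_sum_le (ρ := ρ) (uni Zs (inL [54, 55])) cf (fun d d' hne => by
      obtain ⟨a, ha⟩ := Function.ne_iff.1 hne
      have hm : ∀ x ∈ tgts lA, uni Zs (inL [54, 55]) x = true := by decide +kernel
      exact ⟨a.1, hm a.1 a.2, fun e => ha (Subtype.ext (by
        have h3 := hf3 d a; have h4 := hf3 d' a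
        rw [← h3, ← h4, e]))⟩)
    (fun d => Eig C ρ (uni Zs (inL [54, 55])) (cf d)) (Eig C ρ Zs c)
    (fun d => Eig_mono fun b hb => ⟨uni_iff.2 (Or.inl hb), by rw [hf1 d b hb, h21 b hb]⟩) (fun d => le_rfl)
  have h8 : q ^ 4 * q ^ 4 ≤ Module.finrank ℂ (Eig C ρ Zs c) := by
    refine le_trans ?_ ((Finset.card_nsmul_le_sum _ _ _ fun d _ => hq4 d).trans hsum)
    rw [Finset.card_univ, card_Tgt, smul_eq_mul, show dimL (prs [(62, 54), (61, 55)]) = 4 from dims.2.1]
  have h6 := fill_sum (C := C) (ρ := ρ) (i := rt 71) near_ok.1 (fun b hb => by simp [none] at hb)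
    (fun b hb => (tiny.2.2.2.2.2.2.2.2.2.2.2.2.2.2.2 b hb).1) (c := c) hs (fun b hb => by simp [none] at hb)
  rw [dims.1] at h6
  have hk : Module.finrank ℂ (Eig C ρ (inL [71]) c) ≤ k := by
    refine (Submodule.finrank_le _).trans_eq ?_
    rw [Module.finrank_fintype_fun_eq_card, Fintype.card_fin]
  calc q ^ 14 = q ^ 6 * (q ^ 4 * q ^ 4) := by ring
    _ ≤ q ^ 6 * Module.finrank ℂ (Eig C ρ Zs c) := Nat.mul_le_mul_left _ h8
    _ ≤ k := h6.trans hk

theorem pure_pos (hρ : ρ.IsIrreducible) (hk : 2 ≤ k) (hsmall : k < q ^ 14) :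
    0 < Module.finrank ℂ (Eig C ρ Zs (sgl (rt 71) (1 : K))) := by
  classical
  obtain ⟨c, v, hv0, hv, hs⟩ := exists_char hρ hk
  obtain ⟨c', h1, h2, h3⟩ := fill_family (C := C) (ρ := ρ) near_ok.1 (fun b hb => by simp [none] at hb)
    (c := c) (Module.finrank_pos_iff_exists_ne_zero.2 ⟨⟨v, hv⟩, fun e => hv0 (congrArg Subtype.val e)⟩)
    (fun b hb => by simp [none] at hb) hs (fun _ => ⟨0, fun _ => map_zero _⟩)
  have hpos : 0 < Module.finrank ℂ (Eig C ρ Zs c') := lt_of_lt_of_le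
    (Module.finrank_pos_iff_exists_ne_zero.2 ⟨⟨v, hv⟩, fun e => hv0 (congrArg Subtype.val e)⟩) h2
  obtain ⟨w, hw, hw0⟩ := exists_ne hpos
  have h71 : c' (rt 71) = c (rt 71) := h1 _ (by decide +kernel)
  have hzero : ∀ b, Zs b = true → b ≠ rt 71 → b ≠ rt 60 → c' b = 0 := by
    intro b hb hb1 hb2
    rcases near_ok.2 b hb with e | e | ⟨x, hx, e⟩
    · exact absurd e hb1
    · exact absurd e hb2
    have hx' : c' x.2 = 0 := h3 ⟨x.2, List.mem_toFinset.2 (List.mem_map.2 ⟨x, hx, rfl⟩)⟩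
    rcases e with e | e
    · rw [← e]; exact hx'
    · rw [← e, Eig_swap_val hw hw0 (tiny.2.2.2.2.2.2.2.2.2.2.2.2.1 x hx) (by rw [e]; exact hb), hx', map_zero, mul_zero]
  by_cases hr : c' (rt 60) = 0
  · have hT := const_torus (C := C) (ρ := ρ) (S := Zs) (Or.inl cart_tops.1)
    rw [← hT (c' (rt 71)) (Eig_fixed_val hw hw0 tiny.2.2.1 tiny.1) (by rw [h71]; exact hs)]
    refine lt_of_lt_of_le hpos (Submodule.finrank_mono (Eig_mono fun b hb => ⟨hb, ?_⟩))
    by_cases hb1 : b = rt 71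
    · rw [hb1, sgl_self]
    rw [sgl_ne hb1]
    by_cases hb2 : b = rt 60
    · rw [hb2, hr]
    · exact hzero b hb hb1 hb2
  · exfalso
    have h6 : ∀ b, six b = true → Zs b = true ∧ b ≠ rt 71 ∧ b ≠ rt 60 := by decide +kernel
    have := big (C := C) (ρ := ρ) (c := c') (by rw [h71]; exact hs) hr
      (fun b hb => hzero b (h6 b hb).1 (h6 b hb).2.1 (h6 b hb).2.2) hpos
    omega

/-! ### The lines -/

/-- The characters on the extended centre that are pure on the centre. -/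
def Pure (c : Rt → K) (s : K) : Prop := ∀ b, Zs b = true → c b = sgl (rt 71) s b

theorem translate_le {c : Rt → K} {s : K} (hs : s ≠ 0) (hc : Pure c s) :
    q ^ 4 * Module.finrank ℂ (Eig C ρ Az c) ≤ Module.finrank ℂ (Eig C ρ Z0U c) := by
  have h := fill_sum (C := C) (ρ := ρ) Az_ok.2.2.1 (fun b hb => by
      simp only [wo, Bool.and_eq_true] at hb; exact tiny.2.2.2.2.2.1 b hb.1)
    tiny.2.2.2.2.2.2.1 (c := c) (by rw [hc _ tiny.2.2.1, sgl_self]; exact hs)
    (fun b hb => by simp [wo] at hb; rw [hc b hb.1, sgl_ne hb.2])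
  rwa [show dimL (prs [(62, 54), (61, 55)]) = 4 from dims.2.1] at h

variable {M : ℕ} (hM : Const C ρ Zs (rt 71) M) (hM2 : M < 2 * q ^ 4)

include hM hM2 in
theorem orth_zero {c : Rt → K} {s : K} (hs : s ≠ 0) (hc : Pure c s) {v : Fin k → ℂ}
    (hv : v ∈ Eig C ρ Az c) (hv0 : v ≠ 0) : ∀ b, Z0U b = true → Zs b = false → c b = 0 := by
  classical
  intro b hb hbz
  by_contra hne
  have hsf : fr C s = s := by
    have := Eig_fixed_val hv hv0 (tiny.2.2.2.2.2.2.1 _ (tiny.2.2.2.2.2.1 _ tiny.2.2.1)) tiny.1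
    rwa [hc _ tiny.2.2.1, sgl_self] at this
  rcases kill_cover b hb with h | ⟨x, hx, hxb⟩
  · rw [hbz] at h; exact Bool.false_ne_true h
  obtain ⟨hst, hak, hkz, hK, hZ, hS, hpair, htgt⟩ := kill_ok x hx
  have hz : ∀ e, wo Zs (rt 71) e = true → c e = 0 := fun e he => by
    simp [wo] at he; rw [hc e he.1, sgl_ne he.2]
  have hsrc : c x.1 ≠ 0 := by
    rcases hxb with e | e
    · rwa [e]
    · intro h0
      have hmem : Az x.1 = true := by
        have := tiny.2.2.2.2.2.2.2.2.2.2.2.1 _ (tiny.2.2.2.2.2.2.1 _ hb)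
        rwa [← e, sr_sr] at this
      refine hne ?_
      rw [← e, Eig_swap_val hv hv0 hmem (by rw [e]; exact tiny.2.2.2.2.2.2.1 _ hb), h0, map_zero, mul_zero]
  set g := x.2.1
  set a := x.2.2
  let t : K := if sr g = g then τ C else 1
  have hkne : (kap g a : K) ≠ 0 := by
    have hN : Nc g a ≠ 0 := by simp only [Kin, decide_eq_true_eq] at hK; exact hK.1
    rcases (terms_ok g a hN).2 with e | e <;> simp [e]
  have hch : mv C g t c a ≠ c a := by
    simp only [mv, hZ, Bool.false_eq_true, if_false, hK, if_true, dd, hS]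
    have hkc : kC g a = false := by simp [kC, hpair]
    rw [hkc, if_neg Bool.false_ne_true, add_zero, ne_eq, add_eq_left, mul_eq_zero, not_or]
    refine ⟨neg_ne_zero.2 hkne, ?_⟩
    by_cases hg : sr g = g
    · rw [if_pos hg, show t = τ C from if_pos hg, Tr_τ, mul_one]; exact hsrc
    · rw [if_neg hg, if_neg hpair, show t = 1 from if_neg hg, mul_one]; exact hsrc
  have hv' : ρ (y C g t) v ∈ Eig C ρ Az (mv C g t c) := move g t hst (fun e he h1 h2 => hz _ (hak e he h1 h2)) hv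
  have hc' : Pure (mv C g t c) s := fun e he => by rw [mv_eq t (hkz e he) hz, hc e he]
  have hsum := finrank_sum_le (ρ := ρ) Z0U (fun o : Bool => if o then mv C g t c else c)
    (fun o o' hoo => ⟨a, htgt, by cases o <;> cases o' <;> simp_all [Ne.symm]⟩)
    (fun o => Eig C ρ Z0U (if o then mv C g t c else c)) (Eig C ρ Zs (sgl (rt 71) s))
    (fun o => Eig_mono fun e he => ⟨tiny.2.2.2.2.2.1 e he, by
      cases o
      · exact hc e he
      · exact hc' e he⟩) (fun o => le_rfl)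
  rw [Fintype.sum_bool, hM s hsf hs] at hsum
  have p1 : 0 < Module.finrank ℂ (Eig C ρ Az c) :=
    Module.finrank_pos_iff_exists_ne_zero.2 ⟨⟨v, hv⟩, fun e => hv0 (congrArg Subtype.val e)⟩
  have p2 : 0 < Module.finrank ℂ (Eig C ρ Az (mv C g t c)) :=
    Module.finrank_pos_iff_exists_ne_zero.2 ⟨⟨_, hv'⟩, fun e => hv0 (rho_inj ρ (congrArg Subtype.val e))⟩
  have q1 := (Nat.le_mul_of_pos_right (q ^ 4) p1).trans (translate_le hs hc)
  have q2 := (Nat.le_mul_of_pos_right (q ^ 4) p2).trans (translate_le hs hc')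
  have hsum' : Module.finrank ℂ (Eig C ρ Z0U (mv C g t c)) + Module.finrank ℂ (Eig C ρ Z0U c) ≤ M := hsum
  omega

include hM hM2 in
/-- Every vector of a pure character moves to the line. -/
theorem to_line {c : Rt → K} {s : K} (hs : s ≠ 0) (hc : Pure c s) {v : Fin k → ℂ}
    (hv : v ∈ Eig C ρ Az c) (hv0 : v ≠ 0) :
    ∃ h ∈ Submonoid.closure {x | ∃ p ∈ lA, ∃ t, x = y C p.1 t},
      ρ h v ∈ Eig C ρ Az (sgl (rt 71) s) := by
  have hz : ∀ e, wo Zs (rt 71) e = true → c e = 0 := fun e he => by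
    simp [wo] at he; rw [hc e he.1, sgl_ne he.2]
  obtain ⟨h, c', h0, h1, h2, h3⟩ := fill (fun b hb => by
      simp only [wo, Bool.and_eq_true] at hb; exact tiny.2.2.2.2.2.1 b hb.1)
    _ none Az_ok.2.2.1 c (fun _ => 0) hv hv0 hz (by rw [hc _ tiny.2.2.1, sgl_self]; exact hs)
    (fun _ _ => map_zero _)
  refine ⟨h, h0, Eig_mono (fun b hb => ⟨hb, ?_⟩) (h1 v hv)⟩
  have hw : ρ h v ≠ 0 := fun e => hv0 (rho_inj ρ e)
  rcases Az_ok.2.2.2.2 b hb with e | e
  · rw [h2 b (Or.inl e)]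
    cases hz' : Zs b with
    | true => exact hc b hz'
    | false =>
      rw [orth_zero hM hM2 hs hc hv hv0 b e hz', sgl_ne]
      exact fun e' => by rw [e', tiny.2.2.1] at hz'; exact absurd hz' (by decide)
  have hb71 : b ≠ rt 71 := by
    rcases e with e | e | e | e <;> rw [e] <;> decide +kernel
  have h54 : c' (rt 54) = 0 := h3 (rt 62, rt 54) (by simp [prs])
  have h55 : c' (rt 55) = 0 := h3 (rt 61, rt 55) (by simp [prs])
  rw [sgl_ne hb71]
  rcases e with e | e | e | e <;> rw [e] at hb ⊢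
  · exact h54
  · exact h55
  · rw [Eig_swap_val (h1 v hv) hw (by decide +kernel) hb, h54, map_zero, mul_zero]
  · rw [Eig_swap_val (h1 v hv) hw (by decide +kernel) hb, h55, map_zero, mul_zero]

include hM hM2 in
/-- The line of a pure character. -/
theorem line {s : K} (hsf : fr C s = s) (hs : s ≠ 0) (hM1 : 0 < M) :
    Module.finrank ℂ (Eig C ρ Az (sgl (rt 71) s)) = 1 := by
  refine le_antisymm ?_ ?_
  · have h1 := translate_le (C := C) (ρ := ρ) (c := sgl (rt 71) s) hs (fun _ _ => rfl)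
    have h2 : Module.finrank ℂ (Eig C ρ Z0U (sgl (rt 71) s)) ≤ M := hM s hsf hs ▸
      Submodule.finrank_mono (Eig_mono fun b hb => ⟨tiny.2.2.2.2.2.1 b hb, rfl⟩)
    by_contra h
    have h3 : q ^ 4 * 2 ≤ q ^ 4 * Module.finrank ℂ (Eig C ρ Az (sgl (rt 71) s)) :=
      Nat.mul_le_mul_left _ (by omega)
    omega
  · by_contra h0
    obtain ⟨v, hv, hv0⟩ := exists_ne (A := Eig C ρ Zs (sgl (rt 71) s)) (by rw [hM s hsf hs]; exact hM1)
    refine hv0 ((Submodule.mem_bot ℂ).1 (split (C := C) (ρ := ρ) ⊥ _ _ Az_ok.1 _ (fun b hb => ?_)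
      (fun c' h1 _ w hw => (Submodule.mem_bot ℂ).2 ?_) hv))
    · simp [wo] at hb; exact sgl_ne hb.2 _
    by_contra hw0
    rw [← funext Az_ok.2.1] at hw
    obtain ⟨h, -, hh⟩ := to_line hM hM2 hs h1 hw hw0
    exact h0 (Module.finrank_pos_iff_exists_ne_zero.2 ⟨⟨_, hh⟩, fun e => hw0 (rho_inj ρ (congrArg Subtype.val e))⟩)

variable (hM1 : 0 < M) {s : K} (hsf : fr C s = s) (hs : s ≠ 0)

include hM hM2 hM1 hsf hs in
/-- The roots in `five` act trivially on the line. -/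
theorem five_fix {g : Rt} (hg : five g = true) (u : K) {v : Fin k → ℂ}
    (hv : v ∈ Eig C ρ Az (sgl (rt 71) s)) : ρ (y C g u) v = v := by
  have h1 := line (C := C) (ρ := ρ) hM hM2 hsf hs hM1
  have hp : ∀ g ∈ [rt 21, rt 43, rt 29, rt 37, rt 39], ∀ t, ∀ w ∈ Eig C ρ Az (sgl (rt 71) s),
      ρ (y C g t) w ∈ Eig C ρ Az (sgl (rt 71) s) := fun g hg t w hw =>
    keep_pres (five_ok g hg) (fun b hb => sgl_ne (by simp [wo] at hb; exact hb.2) _) t hw
  obtain ⟨⟨k1, e1, b1⟩, ⟨k2, e2, b2⟩, ⟨k3, e3, b3⟩, ⟨k4, e4, b4⟩, hsr, hall⟩ := five_kin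
  have f25 : ∀ u, ∀ w ∈ Eig C ρ Az (sgl (rt 71) s), ρ (y C (rt 25) u) w = w := fun u w hw =>
    e1 ▸ trivial_comm h1 k1 (hp _ (by simp)) (hp _ (by simp)) (fun h => by simp [b1] at h) u hw
  have f39 : ∀ u, ∀ w ∈ Eig C ρ Az (sgl (rt 71) s), ρ (y C (rt 39) u) w = w := fun u w hw =>
    e2 ▸ trivial_comm h1 k2 (hp _ (by simp)) (hp _ (by simp)) (fun h => by simp [b2] at h) u hw
  have f44 : ∀ u, ∀ w ∈ Eig C ρ Az (sgl (rt 71) s), ρ (y C (rt 44) u) w = w := fun u w hw =>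
    e3 ▸ trivial_comm h1 k3 (hp _ (by simp)) (hp _ (by simp)) (fun h => by simp [b3] at h) u hw
  have f40 : ∀ u, ∀ w ∈ Eig C ρ Az (sgl (rt 71) s), ρ (y C (rt 40) u) w = w := fun u w hw =>
    e4 ▸ trivial_comm h1 k4 (hp _ (by simp)) (hp _ (by simp)) (fun _ => b4 ▸ f44) u hw
  have f43 : ∀ u, ∀ w ∈ Eig C ρ Az (sgl (rt 71) s), ρ (y C (rt 43) u) w = w := fun u w hw => by
    rw [← y_swap C (rt 43) u, ← hsr, sr_sr]
    exact f40 _ w hw
  rcases hall g hg with rfl | rfl | rfl | rfl | rfl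
  exacts [f25 u v hv, f39 u v hv, f40 u v hv, f43 u v hv, f44 u v hv]

include hM hM2 hM1 hsf hs in
/-- The first of them acts trivially on the whole space of the pure character. -/
theorem whole_fix (u : K) {w : Fin k → ℂ} (hw : w ∈ Eig C ρ Zs (sgl (rt 71) s)) :
    ρ (y C (rt 25) u) w = w := by
  refine split (C := C) (ρ := ρ) (LinearMap.eqLocus (ρ (y C (rt 25) u)) LinearMap.id) _ _ Az_ok.1 _
    (fun b hb => sgl_ne (by simp [wo] at hb; exact hb.2) _) (fun c' h1 _ v hv => ?_) hw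
  show ρ (y C (rt 25) u) v = v
  rw [← funext Az_ok.2.1] at hv
  rcases eq_or_ne v 0 with rfl | hv0
  · rw [map_zero]
  obtain ⟨h, hh0, hh⟩ := to_line hM hM2 hs h1 hv hv0
  suffices key : ∀ h ∈ Submonoid.closure {x | ∃ p ∈ lA, ∃ t, x = y C p.1 t},
      ∀ (c : Rt → K) (v : Fin k → ℂ), v ∈ Eig C ρ Az c →
        (∀ b, Z0U b = true → c b = sgl (rt 71) s b) →
        (∃ c', ρ h v ∈ Eig C ρ Az c' ∧ ∀ b, Z0U b = true → c' b = sgl (rt 71) s b) ∧
        ((∀ u, ρ (y C (rt 25) u) (ρ h v) = ρ h v) → ∀ u, ρ (y C (rt 25) u) v = v) by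
    refine (key h hh0 c' v hv (fun b hb => ?_)).2
      (fun u => five_fix hM hM2 hM1 hsf hs (by decide +kernel) u hh) u
    cases hz : Zs b with
    | true => exact h1 b hz
    | false =>
      rw [orth_zero hM hM2 hs h1 hv hv0 b hb hz, sgl_ne]
      exact fun e => by rw [e, tiny.2.2.1] at hz; exact absurd hz (by decide)
  intro h hh
  induction hh using Submonoid.closure_induction with
  | one => exact fun c v hv hc => ⟨⟨c, by rw [map_one]; exact hv, hc⟩, fun hf => by simpa using hf⟩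
  | mul a b _ _ iha ihb =>
    intro c v hv hc
    obtain ⟨⟨c1, h1, hc1⟩, hb⟩ := ihb c v hv hc
    obtain ⟨⟨c2, h2, hc2⟩, ha⟩ := iha c1 _ h1 hc1
    simp only [rho_mul]
    exact ⟨⟨c2, h2, hc2⟩, fun hf => hb (ha hf)⟩
  | mem x hx =>
    intro c v hv hc
    obtain ⟨p, hp, t, rfl⟩ := hx
    have hfa : ∀ p ∈ lA, (∀ b, Az b = true → Step Az p.1 b = true) ∧ Aok Az (wo Zs (rt 71)) p.1 ∧
        (∀ b, Z0U b = true → Step (wo Zs (rt 71)) p.1 b = true) := by decide +kernel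
    obtain ⟨g1, g2, g3⟩ := hfa p hp
    have hz : ∀ e, wo Zs (rt 71) e = true → c e = 0 := fun e he => by
      simp [wo] at he; rw [hc e (tiny.2.2.2.2.2.1 e he.1), sgl_ne he.2]
    have hm := move p.1 t g1 (fun e he h1 h2 => hz _ (g2 e he h1 h2)) hv
    have hc1 : ∀ b, Z0U b = true → mv C p.1 t c b = sgl (rt 71) s b := fun b hb => by
      rw [mv_eq t (g3 b hb) hz, hc b hb]
    refine ⟨⟨_, hm, hc1⟩, fun hf u => ?_⟩
    have hmem : p.1 ∈ [rt 62, rt 61] := by
      simp only [lA, prs, List.map_cons, List.map_nil, List.mem_cons, List.not_mem_nil, or_false] at hp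
      rcases hp with rfl | rfl <;> simp
    have hback : ρ (y C p.1 (-t)) (ρ (y C p.1 t) v) = v := by rw [← rho_mul, y_neg_mul, map_one]; rfl
    rw [← hback, ← rho_mul]
    have hfix : ∀ b, wo Az (rt 71) b = true → Z0U b = true → ∀ u, ρ (y C b u) (ρ (y C p.1 t) v) = ρ (y C p.1 t) v :=
      fun b hb hb' => Eig_zero_fix hm (by simp [wo] at hb; exact hb.1)
        (by rw [hc1 b hb']; exact sgl_ne (by simp [wo] at hb; exact hb.2) _)
    rcases translate_fixed p.1 hmem with h0 | ⟨hK, hs1, hs2, hs3, hs4⟩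
    · rw [y_comm C h0, rho_mul, hf u]
    · have e2 : ρ (y C (bb p.1 (rt 25)) (m2 C p.1 (rt 25) (-t) u)) (ρ (y C p.1 t) v) = ρ (y C p.1 t) v := by
        rcases Bool.eq_false_or_eq_true (hb p.1 (rt 25)) with e | e
        · exact hfix _ (hs2 e) (hs4 e) _
        · simp only [hb, Bool.or_eq_false_iff] at e
          rw [m2, if_neg (by simp [e.1]), if_neg (by simp [e.2]), y_zero, map_one]; rfl
      rw [y_move C hK, rho_mul, rho_mul, rho_mul, e2, hfix _ hs1 hs3, hf u]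

end CfsgLib.TwE6Deg
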