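import Cfsg.Agent.Lib.TwE6Deg.Tools

/-! Weyl and torus elements of ²E₆. -/

set_option autoImplicit false
set_option linter.unusedSectionVars false
set_option linter.dupNamespace false
set_option maxRecDepth 100000
set_option maxHeartbeats 1000000
set_option synthInstance.maxSize 4096
set_option synthInstance.maxHeartbeats 400000

namespace CfsgLib.TwE6Deg

open Cfsg.Lie CfsgLib.Chev CfsgLib.Chev.Chev CfsgLib.Chev.T2E6

/-- The fundamental indices of the four rational reflections. -/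
def orbI (j : Fin 4) : List (Fin Cfsg.Lie.chevE6.rank) :=
  match j with
  | ⟨0, _⟩ => [ix 1]
  | ⟨1, _⟩ => [ix 3]
  | ⟨2, _⟩ => [ix 2, ix 4]
  | ⟨_, _⟩ => [ix 0, ix 5]

/-- The image of a root under a product of simple reflections. -/
noncomputable def imgI : List (Fin Cfsg.Lie.chevE6.rank) → Rt → Rt
  | [], a => a
  | i :: l, a => CfsgLib.Chev.chevE6.refl i (imgI l a)

/-- Its sign. -/
noncomputable def etaI : List (Fin Cfsg.Lie.chevE6.rank) → Rt → ℤ
  | [], _ => 1
  | i :: l, a => CfsgLib.Chev.chevE6.eta i (imgI l a) * etaI l a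

/-- The image of a root under a word in the rational reflections. -/
noncomputable def wim : List (Fin 4) → Rt → Rt
  | [], a => a
  | j :: l, a => imgI (orbI j) (wim l a)

/-- Its sign. -/
noncomputable def wet : List (Fin 4) → Rt → ℤ
  | [], _ => 1
  | j :: l, a => etaI (orbI j) (wim l a) * wet l a

theorem orb_ok : ∀ j : Fin 4, ∀ a : Rt, sr (imgI (orbI j) a) = imgI (orbI j) (sr a) ∧
    etaI (orbI j) (sr a) * ee a = ee (imgI (orbI j) a) * etaI (orbI j) a ∧
    (etaI (orbI j) a = 1 ∨ etaI (orbI j) a = -1) ∧ imgI (orbI j) (imgI (orbI j) a) = a := by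
  decide +kernel

theorem wim_append (l m : List (Fin 4)) (a : Rt) : wim (l ++ m) a = wim l (wim m a) := by
  induction l with
  | nil => rfl
  | cons j l ih => simp [wim, ih]

theorem wim_reverse : ∀ (l : List (Fin 4)) (a : Rt), wim l (wim l.reverse a) = a
  | [], _ => rfl
  | j :: l, a => by
    rw [List.reverse_cons, wim_append]
    show imgI (orbI j) (wim l (wim l.reverse (imgI (orbI j) a))) = a
    rw [wim_reverse l, (orb_ok j a).2.2.2]

theorem wim_reverse' (l : List (Fin 4)) (a : Rt) : wim l.reverse (wim l a) = a := by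
  have := wim_reverse l.reverse a
  rwa [List.reverse_reverse] at this

theorem wet_unit : ∀ (l : List (Fin 4)) (a : Rt), wet l a = 1 ∨ wet l a = -1
  | [], _ => Or.inl rfl
  | j :: l, a => by
    rcases (orb_ok j (wim l a)).2.2.1 with h | h <;> rcases wet_unit l a with h' | h' <;> simp [wet, h, h']

variable {K : Type*} [Field K] [Fintype K] {q : ℕ} (C : Ctx K q)

/-- The element of a product of simple reflections. -/
noncomputable def nI (l : List (Fin Cfsg.Lie.chevE6.rank)) : GL Cfsg.Lie.chevE6.Idx K :=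
  (l.map fun i => CfsgLib.Chev.chevE6.nw (CfsgLib.Chev.chevE6.p i) 1).prod

theorem nI_conj : ∀ (l : List (Fin Cfsg.Lie.chevE6.rank)) (a : Rt) (t : K),
    nI (K := K) l * X a t = X (imgI l a) ((etaI l a : K) * t) * nI (K := K) l
  | [], a, t => by simp [nI, imgI, etaI]
  | i :: l, a, t => by
    have e : nI (K := K) (i :: l) = CfsgLib.Chev.chevE6.nw (CfsgLib.Chev.chevE6.p i) 1 * nI (K := K) l := by
      simp [nI]
    rw [e, mul_assoc, nI_conj l a t, ← mul_assoc,
      show CfsgLib.Chev.chevE6.nw (CfsgLib.Chev.chevE6.p i) 1 * X (imgI l a) ((etaI l a : K) * t) = _ from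
        CfsgLib.Chev.chevE6.nw_conj_xg i _ _, mul_assoc]
    congr 2
    simp only [etaI, Int.cast_mul]
    ring

include C in
theorem nI_fix (j : Fin 4) : nI (K := K) (orbI j) ∈ twistedE6 K q := by
  have g := fun i => CfsgLib.Chev.chevE6.nw_mem_group (F := K) (CfsgLib.Chev.chevE6.p i) 1
  obtain ⟨t0, t1, t2, t3, t4, t5⟩ := tau_cases
  have hone : ∀ i : Fin Cfsg.Lie.chevE6.rank, S.τ i = i →
      CfsgLib.Chev.chevE6.nw (CfsgLib.Chev.chevE6.p i) (1 : Kˣ) ∈ twistedE6 K q := fun i h =>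
    fix_mem C (g i) (by rw [Tw.app_nw, h, one_pow])
  have htwo : ∀ a b : Fin Cfsg.Lie.chevE6.rank, S.τ a = b → S.τ b = a →
      Commute (CfsgLib.Chev.chevE6.nw (CfsgLib.Chev.chevE6.p a) (1 : Kˣ))
        (CfsgLib.Chev.chevE6.nw (CfsgLib.Chev.chevE6.p b) (1 : Kˣ)) →
      CfsgLib.Chev.chevE6.nw (CfsgLib.Chev.chevE6.p a) (1 : Kˣ) *
        CfsgLib.Chev.chevE6.nw (CfsgLib.Chev.chevE6.p b) 1 ∈ twistedE6 K q := fun a b h h' hc =>
    fix_mem C (mul_mem (g a) (g b)) (by
      rw [Tw.app_mul _ (g a) (g b), Tw.app_nw, Tw.app_nw, h, h', one_pow, one_pow, hc.eq])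
  have hc : ∀ a b : Fin Cfsg.Lie.chevE6.rank,
      (∀ x, (x = CfsgLib.Chev.chevE6.p a ∨ x = (CfsgLib.Chev.chevE6.p a).rev) →
        ∀ z, (z = CfsgLib.Chev.chevE6.p b ∨ z = (CfsgLib.Chev.chevE6.p b).rev) → Nc x z = 0 ∧ z ≠ x.rev) →
      Commute (CfsgLib.Chev.chevE6.nw (CfsgLib.Chev.chevE6.p a) (1 : Kˣ))
        (CfsgLib.Chev.chevE6.nw (CfsgLib.Chev.chevE6.p b) (1 : Kˣ)) := fun a b o => by
    have c : ∀ x z, (x = CfsgLib.Chev.chevE6.p a ∨ x = (CfsgLib.Chev.chevE6.p a).rev) →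
        (z = CfsgLib.Chev.chevE6.p b ∨ z = (CfsgLib.Chev.chevE6.p b).rev) → ∀ s u : K, Commute (X x s) (X z u) :=
      fun x z hx hz s u => (X_comm (o x hx z hz).2 (o x hx z hz).1 s u).symm
    have k : ∀ x, (x = CfsgLib.Chev.chevE6.p a ∨ x = (CfsgLib.Chev.chevE6.p a).rev) → ∀ s : K,
        Commute (X x s) (CfsgLib.Chev.chevE6.nw (CfsgLib.Chev.chevE6.p b) (1 : Kˣ)) := fun x hx s =>
      ((c x _ hx (Or.inl rfl) s _).mul_right (c x _ hx (Or.inr rfl) s _)).mul_right (c x _ hx (Or.inl rfl) s _)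
    exact ((k _ (Or.inl rfl) _).mul_left (k _ (Or.inr rfl) _)).mul_left (k _ (Or.inl rfl) _)
  match j with
  | ⟨0, _⟩ => show nI (K := K) [ix 1] ∈ _; simp only [nI, List.map_cons, List.map_nil, List.prod_cons,
      List.prod_nil, mul_one]; exact hone _ t1
  | ⟨1, _⟩ => show nI (K := K) [ix 3] ∈ _; simp only [nI, List.map_cons, List.map_nil, List.prod_cons,
      List.prod_nil, mul_one]; exact hone _ t3
  | ⟨2, _⟩ => show nI (K := K) [ix 2, ix 4] ∈ _; simp only [nI, List.map_cons, List.map_nil, List.prod_cons,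
      List.prod_nil, mul_one]; exact htwo _ _ t2 t4 (hc _ _ (by decide +kernel))
  | ⟨3, _⟩ => show nI (K := K) [ix 0, ix 5] ∈ _; simp only [nI, List.map_cons, List.map_nil, List.prod_cons,
      List.prod_nil, mul_one]; exact htwo _ _ t0 t5 (hc _ _ (by decide +kernel))

/-- The element of a word in the rational reflections. -/
noncomputable def nW : List (Fin 4) → GG K q
  | [] => 1
  | j :: l => ⟨nI (orbI j), nI_fix C j⟩ * nW l

theorem nW_y : ∀ (l : List (Fin 4)) (a : Rt) (t : K),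
    nW C l * y C a t = y C (wim l a) ((wet l a : K) * t) * nW C l
  | [], a, t => by simp [nW, wim, wet]
  | j :: l, a, t => by
    have e1 : (⟨nI (orbI j), nI_fix C j⟩ : GG K q) * y C (wim l a) ((wet l a : K) * t) =
        y C (wim (j :: l) a) ((wet (j :: l) a : K) * t) * ⟨nI (orbI j), nI_fix C j⟩ := by
      obtain ⟨h1, h2, -, -⟩ := orb_ok j (wim l a)
      refine Subtype.ext ?_
      simp only [Subgroup.coe_mul, y_val, wim, wet]
      rw [← mul_assoc, nI_conj, mul_assoc (X _ _) (nI _), nI_conj, ← mul_assoc, h1]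
      congr 2
      · congr 1; push_cast; ring
      · have h2' := congrArg (fun n : ℤ => (n : K)) h2
        push_cast at h2'
        congr 1
        simp only [map_mul, map_intCast, Int.cast_mul]
        linear_combination ((wet l a : K) * fr C t) * h2'
    simp only [nW]
    rw [mul_assoc, nW_y l a t, ← mul_assoc, e1, mul_assoc]

variable {C} {k : ℕ} {ρ : Representation ℂ (GG K q) (Fin k → ℂ)}

theorem y_nW (l : List (Fin 4)) (b : Rt) (u : K) :
    y C b u * nW C l = nW C l * y C (wim l.reverse b) ((wet l (wim l.reverse b) : K) * u) := by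
  rw [nW_y, wim_reverse, ← mul_assoc]
  congr 2
  rcases wet_unit l (wim l.reverse b) with h | h <;> simp [h]

/-- The transported characters. -/
noncomputable def wc (l : List (Fin 4)) (c : Rt → K) (b : Rt) : K :=
  (wet l (wim l.reverse b) : K) * c (wim l.reverse b)

theorem move_nW (l : List (Fin 4)) {S S' : Rt → Bool} (h : ∀ b, S' b = true → S (wim l.reverse b) = true)
    {c : Rt → K} {v : Fin k → ℂ} (hv : v ∈ Eig C ρ S c) : ρ (nW C l) v ∈ Eig C ρ S' (wc l c) := by
  intro b hb u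
  rw [← rho_mul, y_nW, rho_mul, hv _ (h b hb), map_smul, wc]
  congr 2
  ring

theorem wc_sgl (l : List (Fin 4)) (r : Rt) (s : K) :
    wc l (sgl r s) = sgl (wim l r) ((wet l r : K) * s) := funext fun b => by
  rw [wc]
  by_cases h : b = wim l r
  · rw [h, wim_reverse', sgl_self, sgl_self]
  · rw [sgl_ne h, sgl_ne fun e => h (by rw [← e, wim_reverse]), mul_zero]

theorem move_nW_sgl (l : List (Fin 4)) {S S' : Rt → Bool} (h : ∀ b, S' b = true → S (wim l.reverse b) = true)
    {r : Rt} {s : K} {v : Fin k → ℂ} (hv : v ∈ Eig C ρ S (sgl r s)) :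
    ρ (nW C l) v ∈ Eig C ρ S' (sgl (wim l r) ((wet l r : K) * s)) := by
  rw [← wc_sgl]; exact move_nW l h hv

theorem fix_nW (l : List (Fin 4)) {b : Rt} {v : Fin k → ℂ} (h : ∀ u, ρ (y C (wim l.reverse b) u) v = v)
    (u : K) : ρ (y C b u) (ρ (nW C l) v) = ρ (nW C l) v := by
  rw [← rho_mul, y_nW, rho_mul, h]

/-! ### The torus -/

theorem cart_ok : ∀ a : Rt, CfsgLib.Chev.chevE6.A (ix 1) (sr a) = CfsgLib.Chev.chevE6.A (ix 1) a := by
  decide +kernel

variable (C)

/-- A torus element. -/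
noncomputable def hT (u : Kˣ) (hu : fr C (u : K) = u) : GG K q :=
  ⟨CfsgLib.Chev.chevE6.hw (CfsgLib.Chev.chevE6.p (ix 1)) u, fix_mem C
    (mul_mem (CfsgLib.Chev.chevE6.nw_mem_group _ _) (CfsgLib.Chev.chevE6.nw_mem_group _ _)) (by
      rw [Tw.app_hw, tau_cases.2.1]
      congr 1
      refine Units.ext ?_
      rw [Units.val_pow_eq_pow_val, k_p, ← fr_apply C, hu])⟩

theorem hT_y {u : Kˣ} (hu : fr C (u : K) = u) (a : Rt) (w : K) :
    hT C u hu * y C a w = y C a (((u ^ CfsgLib.Chev.chevE6.A (ix 1) a : Kˣ) : K) * w) * hT C u hu := by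
  refine Subtype.ext ?_
  simp only [Subgroup.coe_mul, y_val]
  have e : ∀ (r : Rt) (z : K), (hT C u hu : GL Cfsg.Lie.chevE6.Idx K) * X r z =
      X r (((u ^ CfsgLib.Chev.chevE6.A (ix 1) r : Kˣ) : K) * z) * (hT C u hu : GL Cfsg.Lie.chevE6.Idx K) := by
    intro r z
    show CfsgLib.Chev.chevE6.hw _ u * CfsgLib.Chev.chevE6.toAlg.xg r z = _ * CfsgLib.Chev.chevE6.hw _ u
    rw [CfsgLib.Chev.chevE6.hw_p, CfsgLib.Chev.chevE6.toAlg.torus_xg,
      CfsgLib.Chev.chevE6.toAlg.chi_cartanChar]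
  rw [← mul_assoc, e, mul_assoc (X a _), e, ← mul_assoc, cart_ok]
  congr 2
  rw [map_mul, Units.val_zpow_eq_zpow_val, map_zpow₀, hu]
  ring

variable {C}

theorem move_hT {u : Kˣ} (hu : fr C (u : K) = u) {S : Rt → Bool} {r : Rt} {s : K} {v : Fin k → ℂ}
    (hv : v ∈ Eig C ρ S (sgl r s)) : ρ (hT C u hu) v ∈
      Eig C ρ S (sgl r ((((u ^ CfsgLib.Chev.chevE6.A (ix 1) r : Kˣ)⁻¹ : Kˣ) : K) * s)) := by
  intro b hb w
  have e : y C b w * hT C u hu =
      hT C u hu * y C b ((((u ^ CfsgLib.Chev.chevE6.A (ix 1) b : Kˣ)⁻¹ : Kˣ) : K) * w) := by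
    rw [hT_y, ← mul_assoc, ← Units.val_mul, mul_inv_cancel, Units.val_one, one_mul]
  rw [← rho_mul, e, rho_mul, hv b hb, map_smul]
  congr 2
  by_cases h : b = r
  · rw [h, sgl_self, sgl_self]; ring
  · rw [sgl_ne h, sgl_ne h, zero_mul, zero_mul]

/-- All non-zero rational values at a root are equivalent. -/
theorem pure_torus {S : Rt → Bool} {r : Rt} (hA : CfsgLib.Chev.chevE6.A (ix 1) r = 1 ∨ CfsgLib.Chev.chevE6.A (ix 1) r = -1)
    {s s' : K} (hs : s ≠ 0) (hs' : s' ≠ 0) (hf : fr C s = s) (hf' : fr C s' = s') :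
    Module.finrank ℂ (Eig C ρ S (sgl r s)) ≤ Module.finrank ℂ (Eig C ρ S (sgl r s')) := by
  rcases hA with hA | hA
  · refine finrank_le_of_move (ρ := ρ) (hT C (Units.mk0 (s / s') (div_ne_zero hs hs'))
      (by rw [Units.val_mk0, map_div₀, hf, hf'])) fun v hv => ?_
    have := move_hT (C := C) (u := Units.mk0 (s / s') (div_ne_zero hs hs'))
      (by rw [Units.val_mk0, map_div₀, hf, hf']) hv
    rw [hA, zpow_one, Units.val_inv_eq_inv_val] at this
    generalize hz : (((Units.mk0 (s / s') (div_ne_zero hs hs') : Kˣ) : K))⁻¹ * s = z at this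
    obtain rfl : s' = z := by rw [← hz, Units.val_mk0]; field_simp
    exact this
  · refine finrank_le_of_move (ρ := ρ) (hT C (Units.mk0 (s' / s) (div_ne_zero hs' hs))
      (by rw [Units.val_mk0, map_div₀, hf, hf'])) fun v hv => ?_
    have := move_hT (C := C) (u := Units.mk0 (s' / s) (div_ne_zero hs' hs))
      (by rw [Units.val_mk0, map_div₀, hf, hf']) hv
    rw [hA, zpow_neg_one, inv_inv] at this
    generalize hz : ((Units.mk0 (s' / s) (div_ne_zero hs' hs) : Kˣ) : K) * s = z at this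
    obtain rfl : s' = z := by rw [← hz, Units.val_mk0]; field_simp
    exact this

/-- Pure characters move along words. -/
theorem pure_word (l : List (Fin 4)) {S S' : Rt → Bool} (h : ∀ b, S' b = true → S (wim l.reverse b) = true)
    (r : Rt) (s : K) : Module.finrank ℂ (Eig C ρ S (sgl r s)) ≤
      Module.finrank ℂ (Eig C ρ S' (sgl (wim l r) ((wet l r : K) * s))) :=
  finrank_le_of_move (ρ := ρ) (nW C l) fun _ hv => move_nW_sgl l h hv

end CfsgLib.TwE6Deg
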